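import Groth.Agent.Lib.Helper88.GM3

/-!
# Formal consequences of Greenlees–May: `RΓ_I` and derived completion on each other's units
(helper39)
-/

set_option autoImplicit false
universe u

namespace Groth.Agent.Lib.Helper39.GMD.Equiv

open CategoryTheory CategoryTheory.Limits CategoryTheory.Pretriangulated DerivedCategory
open DRing Groth.Agent.Lib.Helper88.GM1 Groth.Agent.Lib.Helper88.GM2 Groth.Agent.Lib.Helper88.GM3
open Groth.Agent.Lib.Helper25.DCompRefl

attribute [local instance] HasDerivedCategory.standard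

variable {A : Type u} [CommRing A] [IsNoetherianRing A] (I : Ideal A) [HasRgammaI I]
  [HasDerivedCompletion I]

/-- `RΓ_I K ⟶ K` is a reflection arrow up to the completion of `K` -/
theorem bijective_precomp_ε (K : Dual.D A) (M : Dual.D A) (hM : IsDerivedComplete I M) :
    Function.Bijective (fun φ : K ⟶ M => (RgammaIε I).app K ≫ φ) := by
  obtain ⟨K', v, w, hT⟩ := distinguished_cocone_triangle ((RgammaIε I).app K)
  have hK' : RightOrth (Tors I) K' :=
    rightOrth_obj₃ (Tors I) (tors_shift I) _ hT (fun L hL => comp_ε_bij I L hL K)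
  have hK'' : LeftOrth (IsDerivedComplete I) K' := lo_of_ro I K' hK'
  exact bijective_precomp (IsDerivedComplete I) (comp_shift I) _ hT hK'' M hM

/-- the unit `K ⟶ K^` induces bijections on maps from torsion objects -/
theorem bijective_postcomp_unit (K : Dual.D A) (T : Dual.D A) (hT' : Tors I T) :
    Function.Bijective (fun φ : T ⟶ K => φ ≫ toDerivedCompletion I K) := by
  have hη : IsRefl (IsDerivedComplete I) (toDerivedCompletion I K) := isRefl_unit' I K
  obtain ⟨C, v, w, hT⟩ := distinguished_cocone_triangle (toDerivedCompletion I K)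
  have hC : LeftOrth (IsDerivedComplete I) C :=
    leftOrth_obj₃ (IsDerivedComplete I) (comp_shift I) _ hT (fun M hM => hη M hM)
  have hC' : RightOrth (Tors I) C := ro_of_lo I C hC
  exact bijective_postcomp (Tors I) (tors_shift I) _ hT hC' T hT'

/-- **(a3)** the derived completion of `RΓ_I K ⟶ K` is an isomorphism -/
theorem isIso_dc_map_ε (K : Dual.D A) :
    IsIso ((derivedCompletion I).map ((RgammaIε I).app K)) := by
  rw [isIso_iff_coyoneda_map_bijective]
  intro T
  let adj := derivedCompletionAdj I
  have h1 := bijective_precomp_ε I K T.obj T.property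
  have h2 : (fun x : (derivedCompletion I).obj K ⟶ T =>
      (derivedCompletion I).map ((RgammaIε I).app K) ≫ x) =
      (adj.homEquiv _ T).symm ∘ (fun φ : K ⟶ T.obj => (RgammaIε I).app K ≫ φ) ∘
        (adj.homEquiv K T) := by
    funext x
    apply (adj.homEquiv _ T).injective
    change _ = adj.homEquiv _ T ((adj.homEquiv _ T).symm
      ((RgammaIε I).app K ≫ adj.homEquiv K T x))
    rw [Equiv.apply_symm_apply]
    exact adj.homEquiv_naturality_left _ _
  have hb : Function.Bijective (fun x : (derivedCompletion I).obj K ⟶ T =>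
      (derivedCompletion I).map ((RgammaIε I).app K) ≫ x) := by
    rw [h2]
    exact (adj.homEquiv _ T).symm.bijective.comp (h1.comp (adj.homEquiv K T).bijective)
  exact hb

/-- **(b3)** `RΓ_I` of the unit `K ⟶ K^` is an isomorphism -/
theorem isIso_rg_map_unit (K : Dual.D A) :
    IsIso ((RgammaI I).map (toDerivedCompletion I K)) := by
  set η := toDerivedCompletion I K with hη
  set a := (RgammaI I).map η with ha
  have hnat : a ≫ (RgammaIε I).app _ = (RgammaIε I).app K ≫ η := (RgammaIε I).naturality η
  have key : ∀ T, Tors I T → Function.Bijective (fun g : T ⟶ (RgammaI I).obj K => g ≫ a) := by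
    intro T hT
    have h1 := comp_ε_bij I T hT K
    have h2 := bijective_postcomp_unit I K T hT
    have h3 := comp_ε_bij I T hT ((derivedCompletion I).obj K).obj
    have h4 : (fun g : T ⟶ (RgammaI I).obj ((derivedCompletion I).obj K).obj =>
        g ≫ (RgammaIε I).app _) ∘ (fun g : T ⟶ (RgammaI I).obj K => g ≫ a) =
        (fun φ : T ⟶ K => φ ≫ η) ∘ (fun g : T ⟶ (RgammaI I).obj K => g ≫ (RgammaIε I).app K) := by
      funext g
      change (g ≫ a) ≫ (RgammaIε I).app _ = (g ≫ (RgammaIε I).app K) ≫ η
      rw [Category.assoc, hnat, Category.assoc]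
    have h5 : Function.Bijective ((fun g : T ⟶ (RgammaI I).obj ((derivedCompletion I).obj K).obj =>
        g ≫ (RgammaIε I).app _) ∘ (fun g : T ⟶ (RgammaI I).obj K => g ≫ a)) := by
      rw [h4]
      exact h2.comp h1
    exact (Function.Bijective.of_comp_iff' h3 _).1 h5
  obtain ⟨g, hg⟩ := (key _ (tors_rg I ((derivedCompletion I).obj K).obj)).2 (𝟙 _)
  have hg' : g ≫ a = 𝟙 _ := hg
  refine ⟨g, ?_, hg'⟩
  apply (key _ (tors_rg I K)).1
  change (a ≫ g) ≫ a = 𝟙 _ ≫ a
  rw [Category.assoc, hg', Category.comp_id, Category.id_comp]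

omit [IsNoetherianRing A] [HasRgammaI I] in
/-- the unit is an isomorphism at derived complete objects -/
theorem isIso_unit_of_complete (M : Dual.D A) (hM : IsDerivedComplete I M) :
    IsIso (toDerivedCompletion I M) := by
  have hη : IsRefl (IsDerivedComplete I) (toDerivedCompletion I M) := isRefl_unit' I M
  obtain ⟨r, hr⟩ := (hη M hM).2 (𝟙 M)
  have hr' : toDerivedCompletion I M ≫ r = 𝟙 M := hr
  refine ⟨r, hr', ?_⟩
  apply (hη _ ((derivedCompletion I).obj M).property).1
  change toDerivedCompletion I M ≫ r ≫ toDerivedCompletion I M = toDerivedCompletion I M ≫ 𝟙 _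
  rw [← Category.assoc, hr', Category.id_comp, Category.comp_id]

/-- if `K ≅ RΓ_I M` with `M` derived complete, then `K^ ≅ M` -/
theorem nonempty_dc_iso_of_rg (K M : Dual.D A) (θ : K ≅ (RgammaI I).obj M)
    (hM : IsDerivedComplete I M) : Nonempty (((derivedCompletion I).obj K).obj ≅ M) := by
  have hu : IsRefl (IsDerivedComplete I) (θ.hom ≫ (RgammaIε I).app M) := by
    intro E hE
    have h1 := bijective_precomp_ε I M E hE
    have h2 : Function.Bijective (fun ψ : (RgammaI I).obj M ⟶ E => θ.hom ≫ ψ) :=
      ⟨fun x y h => (cancel_epi θ.hom).1 h, fun y => ⟨θ.inv ≫ y, by simp⟩⟩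
    have h3 : (fun φ : M ⟶ E => (θ.hom ≫ (RgammaIε I).app M) ≫ φ) =
        (fun ψ : (RgammaI I).obj M ⟶ E => θ.hom ≫ ψ) ∘
          (fun φ : M ⟶ E => (RgammaIε I).app M ≫ φ) := by
      funext φ
      simp
    have hb : Function.Bijective (fun φ : M ⟶ E => (θ.hom ≫ (RgammaIε I).app M) ≫ φ) := by
      rw [h3]
      exact h2.comp h1
    exact hb
  exact IsRefl.nonempty_iso (isRefl_unit' I K) hu ((derivedCompletion I).obj K).property hM

end Groth.Agent.Lib.Helper39.GMD.Equiv
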