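import Groth.Agent.Lib.Helper39.GMD.Orth
import Groth.Agent.Lib.Helper39.LD.GamHom
import Groth.Agent.Lib.Helper25.HomCxQis
import Groth.Agent.Lib.Helper25.Bidual.Exact
import Mathlib.Algebra.Homology.DerivedCategory.ShortExact

/-!
# The derived completion of `RHom(K, J)` is `RHom(RΓ_I K, J)` (helper39)
-/

set_option autoImplicit false
universe u

namespace Groth.Agent.Lib.Helper39.GMD.Main

open CategoryTheory CategoryTheory.Limits CategoryTheory.Pretriangulated HomologicalComplex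
open DerivedCategory CochainComplex.HomComplex
open DRing Groth.Agent.Lib.Helper88.GM1 Groth.Agent.Lib.Helper88.GM2 Groth.Agent.Lib.Helper88.GM3
open Groth.Agent.Lib.Helper25.HomCxPre Groth.Agent.Lib.Helper25.RHomKInj
open Groth.Agent.Lib.Helper25.HomCxSplit Groth.Agent.Lib.Helper25.Bidual
open Groth.Agent.Lib.Helper25.DCompRefl Groth.Agent.Lib.Helper25.LocColim
open Groth.Agent.Lib.Helper39.GMD.SymAdj Groth.Agent.Lib.Helper39.GMD.Orth
open Groth.Agent.Lib.Helper39.LD Helper89.RGI

attribute [local instance] HasDerivedCategory.standard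

variable {A : Type u} [CommRing A]

/-- `Hom•(-, J)` respects isomorphisms in the derived category for K-injective `J` -/
theorem homCx_iso_of_Q_iso (J : DRing.Cx A) [J.IsKInjective]
    {E X : DRing.Cx A} (θ : Q.obj E ≅ Q.obj X) :
    Nonempty (Q.obj (DRing.homCx E J) ≅ Q.obj (DRing.homCx X J)) := by
  obtain ⟨X', s, hs, g, hfac⟩ := DerivedCategory.right_fac θ.hom
  haveI : QuasiIso s := (DerivedCategory.isIso_Q_map_iff_quasiIso (φ := s)).1 hs
  have hg : IsIso (Q.map g) := by
    have : Q.map g = Q.map s ≫ θ.hom := by rw [hfac, IsIso.hom_inv_id_assoc]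
    rw [this]
    infer_instance
  haveI : QuasiIso g := (DerivedCategory.isIso_Q_map_iff_quasiIso (φ := g)).1 hg
  haveI : QuasiIso (homCxPre s J) := quasiIso_homCxPre s J
  haveI : QuasiIso (homCxPre g J) := quasiIso_homCxPre g J
  have h1 : IsIso (Q.map (homCxPre s J)) :=
    (DerivedCategory.isIso_Q_map_iff_quasiIso _ _).2 inferInstance
  have h2 : IsIso (Q.map (homCxPre g J)) :=
    (DerivedCategory.isIso_Q_map_iff_quasiIso _ _).2 inferInstance
  exact ⟨asIso (Q.map (homCxPre s J)) ≪≫ (asIso (Q.map (homCxPre g J))).symm⟩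

/-- `Hom•(Γ, -)` respects quasi-isomorphisms between K-injective complexes, in `D(A)` -/
theorem homCx_iso_of_quasiIso_right (Γ : DRing.Cx A) {L L' : DRing.Cx A} [L.IsKInjective]
    [L'.IsKInjective] (t : L ⟶ L') [QuasiIso t] :
    Nonempty (Q.obj (DRing.homCx Γ L) ≅ Q.obj (DRing.homCx Γ L')) := by
  obtain ⟨P, π, hP, hπ, -, -, -⟩ :=
    Groth.Agent.Lib.Helper15.KProjRes.exists_kprojective_resolution Γ
  haveI := hP
  haveI := hπ
  haveI : QuasiIso (homCxPre π L) := quasiIso_homCxPre π L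
  haveI : QuasiIso (homCxPre π L') := quasiIso_homCxPre π L'
  haveI : QuasiIso (DRing.homCxMap P t) :=
    Groth.Agent.Lib.Helper25.HomCxQis.quasiIso_homCxMap P t
  have h1 : IsIso (Q.map (homCxPre π L)) :=
    (DerivedCategory.isIso_Q_map_iff_quasiIso _ _).2 inferInstance
  have h2 : IsIso (Q.map (homCxPre π L')) :=
    (DerivedCategory.isIso_Q_map_iff_quasiIso _ _).2 inferInstance
  have h3 : IsIso (Q.map (DRing.homCxMap P t)) :=
    (DerivedCategory.isIso_Q_map_iff_quasiIso _ _).2 inferInstance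
  exact ⟨asIso (Q.map (homCxPre π L)) ≪≫ asIso (Q.map (DRing.homCxMap P t)) ≪≫
    (asIso (Q.map (homCxPre π L'))).symm⟩

section Torsion

variable (I : Ideal A) (P J : DRing.Cx A)

theorem T_surjective_of_torsion (hP : ∀ (p : ℤ) (x : P.X p), x ∈ DRing.torsionSub I (P.X p))
    (n : ℤ) (w : Cochain P J n) :
    ∃ z : Cochain P (gam I J) n, ((T I P J).f n).hom z = w := by
  refine ⟨Cochain.mk (fun p q hpq => ModuleCat.ofHom
    (LinearMap.codRestrict (DRing.torsionSub I (J.X q)) (w.v p q hpq).hom (fun x =>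
      DRing.map_mem_torsionSub I (w.v p q hpq).hom (hP p x)))), ?_⟩
  refine Cochain.ext _ _ (fun p q hpq => ?_)
  ext x
  rw [T_v]
  rfl

/-- for a termwise torsion complex `P`, `Hom•(P, Γ_I J) ⟶ Hom•(P, J)` is an isomorphism -/
theorem isIso_T_of_torsion (hP : ∀ (p : ℤ) (x : P.X p), x ∈ DRing.torsionSub I (P.X p)) :
    IsIso (T I P J) := by
  haveI : ∀ n, IsIso ((T I P J).f n) := fun n => by
    rw [ConcreteCategory.isIso_iff_bijective]
    exact ⟨fun z z' h => T_injective I P J n z z' h,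
      fun w => T_surjective_of_torsion I P J hP n w⟩
  exact HomologicalComplex.Hom.isIso_of_components _

end Torsion

section Abstract

variable [IsNoetherianRing A] (I : Ideal A) [HasRgammaI I] [HasDerivedCompletion I]

omit [HasRgammaI I] [HasDerivedCompletion I] [IsNoetherianRing A] in
theorem tors_Q_gammaCx (J₀ : DRing.Cx A) : Tors I (Q.obj (gammaCx I (ComplexShape.up ℤ) J₀)) :=
  fun n m => torsion_homology_Q I _ (homology_gammaCx_torsion I J₀) n m

omit [HasDerivedCompletion I] in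
theorem rightOrth_quotCx (J₀ : DRing.Cx A) [J₀.IsKInjective] :
    RightOrth (Tors I) (Q.obj (quotCx I (ComplexShape.up ℤ) J₀)) := by
  have hS := gammaSC_shortExact I (ComplexShape.up ℤ) J₀
  have hT := triangleOfSES_distinguished hS
  refine rightOrth_obj₃ (Tors I) (tors_shift I) (triangleOfSES hS) hT (fun L hL => ?_)
  change Function.Bijective (fun φ : L ⟶ Q.obj (gammaCx I _ J₀) => φ ≫ Q.map (gammaCxι I _ J₀))
  have h1 := comp_ε_bij I L hL (Q.obj J₀)
  have h2 : Function.Bijective (fun φ : L ⟶ Q.obj (gammaCx I _ J₀) => φ ≫ uJ I J₀) :=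
    ⟨fun a b h => (cancel_mono (uJ I J₀)).1 h,
      fun b => ⟨b ≫ inv (uJ I J₀), by simp⟩⟩
  have h3 : (fun φ : L ⟶ Q.obj (gammaCx I _ J₀) => φ ≫ Q.map (gammaCxι I _ J₀)) =
      (fun g : L ⟶ (RgammaI I).obj (Q.obj J₀) => g ≫ (RgammaIε I).app (Q.obj J₀)) ∘
        (fun φ : L ⟶ Q.obj (gammaCx I _ J₀) => φ ≫ uJ I J₀) := by
    funext φ
    change _ = (φ ≫ uJ I J₀) ≫ (RgammaIε I).app (Q.obj J₀)
    rw [Category.assoc, uJ_ε]
  rw [h3]
  exact h1.comp h2

/-- the arrow `RHom(J₀, J) ⟶ RHom(Γ_I J₀, J)` is a derived completion -/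
theorem isRefl_homCxPre_gammaCxι (J₀ J : DRing.Cx A) [J₀.IsKInjective] [J.IsKInjective]
    (hJ : ∀ n, Injective (J.X n)) :
    IsRefl (IsDerivedComplete I) (Q.map (homCxPre (gammaCxι I (ComplexShape.up ℤ) J₀) J)) := by
  have hS := gammaSC_shortExact I (ComplexShape.up ℤ) J₀
  have hS' := shortExact_preSC J _ hS hJ
  have hT := triangleOfSES_distinguished hS'
  have hZ : LeftOrth (IsDerivedComplete I) (Q.obj (DRing.homCx (quotCx I (ComplexShape.up ℤ) J₀) J)) :=
    leftOrth_homCx I _ J (rightOrth_quotCx I J₀)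
  have hZ1 : LeftOrth (IsDerivedComplete I)
      ((Q.obj (DRing.homCx (quotCx I (ComplexShape.up ℤ) J₀) J))⟦(1 : ℤ)⟧) := by
    intro M hM
    exact (subsingleton_shift_iff 1 (-1) (by omega)).2 (hZ _ (comp_shift I M (-1) hM))
  intro M hM
  exact bijective_precomp (IsDerivedComplete I) (comp_shift I) (triangleOfSES hS').rotate
    (rot_of_distTriang _ hT) hZ1 M hM

theorem nonempty_completion_iso (J₀ J : DRing.Cx A) [J₀.IsKInjective] [J.IsKInjective]
    (hJ : ∀ n, Injective (J.X n)) :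
    Nonempty (((derivedCompletion I).obj (Q.obj (DRing.homCx J₀ J))).obj ≅
      Q.obj (DRing.homCx (gammaCx I (ComplexShape.up ℤ) J₀) J)) :=
  IsRefl.nonempty_iso (isRefl_unit' I _) (isRefl_homCxPre_gammaCxι I J₀ J hJ)
    ((derivedCompletion I).obj _).property
    (isDerivedComplete_homCx I _ J (tors_Q_gammaCx I J₀))

end Abstract

end Groth.Agent.Lib.Helper39.GMD.Main
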