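import Groth.Agent.Lib.Helper39.GMD.MatlisCx
import Groth.Agent.Lib.Helper39.GMD.Equiv
import Groth.Agent.Lib.Helper39.GMD.Main
import Groth.Agent.Lib.Helper39.LD.MainCx
import Groth.Agent.Lib.Helper39.LD.BidualUnb
import Groth.Agent.Lib.Helper84.DComp
import Groth.Agent.Lib.Helper84.DCompAlg
import Groth.Agent.Lib.Helper25.CompleteFinite

/-!
# `RΓ_m` and derived completion between `D^b_fg` and `D^b_cofinite` (helper39)
-/

set_option autoImplicit false
universe u

namespace Groth.Agent.Lib.Helper39.GMD.Cofinite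

open CategoryTheory CategoryTheory.Limits HomologicalComplex DerivedCategory
open InjHull IsLocalRing DRing
open Groth.Agent.Lib.Helper85.Matlis
open Groth.Agent.Lib.Helper88.GM2 Groth.Agent.Lib.Helper88.GM3
open Groth.Agent.Lib.Helper25.Bidual Groth.Agent.Lib.Helper25.LocColim
open Groth.Agent.Lib.Helper39.LD Helper89.RGI

attribute [local instance] HasDerivedCategory.standard

variable {A : Type u} [CommRing A] [IsLocalRing A] [IsNoetherianRing A]
  {E : Type u} [AddCommGroup E] [Module A E] {f : ResidueField A →ₗ[A] E}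

/-- cofinite modules are Artinian -/
theorem isArtinian_of_cofinite (hf : IsInjectiveHull f) (N : Type u) [AddCommGroup N] [Module A N]
    (hN : LocCoh.IsPowerTorsion (maximalIdeal A) N)
    (hfin : Module.Finite A ↥(LocCoh.torsionBy (maximalIdeal A) N)) : IsArtinian A N := by
  haveI : Module.Finite (A ⧸ maximalIdeal A) ↥(LocCoh.torsionBy (maximalIdeal A) N) :=
    Module.Finite.of_restrictScalars_finite A _ _
  obtain ⟨g, hg⟩ := exists_embedding_pi hf N hN _ rfl
  haveI : IsArtinian A E := isArtinian_hull hf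
  exact isArtinian_of_injective g hg

/-- Artinian modules have finite socle over `A` -/
theorem finite_socle_of_isArtinian' (N : Type u) [AddCommGroup N] [Module A N] [IsArtinian A N] :
    Module.Finite A ↥(LocCoh.torsionBy (maximalIdeal A) N) := by
  haveI := finite_socle_of_isArtinian (R := A) N
  exact Module.Finite.trans (A ⧸ maximalIdeal A) _

/-- objects with finite cohomology over a complete local ring are derived complete -/
theorem isDerivedComplete_of_finite [IsAdicComplete (maximalIdeal A) A] (M : Dual.D A)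
    (hfin : ∀ i : ℤ, Module.Finite A (Dual.HD A M i)) :
    IsDerivedComplete (maximalIdeal A) M := by
  rw [Groth.Agent.Lib.Helper84.DComp.isDerivedComplete_iff]
  intro g hg i
  haveI := hfin i
  haveI : IsPrecomplete (maximalIdeal A) (Dual.HD A M i) :=
    Groth.Agent.Lib.Helper25.isPrecomplete_of_finite _ _
  haveI : IsAdicComplete (maximalIdeal A) (Dual.HD A M i) := {}
  exact Groth.Agent.Lib.Helper84.DCompAlg.seqBij_of_isAdicComplete (maximalIdeal A) _ hg

variable [HasRgammaI (maximalIdeal A)]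

/-- the cohomology of `RΓ_m M` is the colimit-defined local cohomology -/
theorem nonempty_hd_rg_equiv (M : Dual.D A) (i : ℤ) :
    Nonempty (Dual.HD A ((RgammaI (maximalIdeal A)).obj M) i ≃ₗ[A]
      Dual2.HDI A (maximalIdeal A) M i) := by
  obtain ⟨L, hL, -, ⟨eL⟩⟩ := exists_kInj M
  haveI := hL
  let e' : (RgammaI (maximalIdeal A)).obj M ≅ Q.obj (gammaCx (maximalIdeal A) _ L) :=
    (RgammaI (maximalIdeal A)).mapIso eL.symm ≪≫ (asIso (uJ (maximalIdeal A) L)).symm
  let e1 : Dual.HD A ((RgammaI (maximalIdeal A)).obj M) i ≃ₗ[A]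
      (gammaCx (maximalIdeal A) (ComplexShape.up ℤ) L).homology i :=
    ((DerivedCategory.homologyFunctor (ModuleCat.{u} A) i).mapIso e' ≪≫
      (DerivedCategory.homologyFunctorFactors (ModuleCat.{u} A) i).app _).toLinearEquiv
  let e2 := hdiEquivHomology (maximalIdeal A) L M eL i
  exact ⟨e1.trans e2.symm⟩

/-- **(a1), (a2)**: for `M ∈ D^b_fg`, `RΓ_m M` is bounded with cofinite cohomology -/
theorem partA (ω : Dual.D A) (hω : Dual.IsDualizing A ω) (hn : Dual.IsNormalized A ω)
    (hf : IsInjectiveHull f) (M : Dual.D A)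
    (hfin : ∀ i : ℤ, Module.Finite A (Dual.HD A M i))
    (hbd : ∃ a b : ℤ, ∀ i : ℤ, (i < a ∨ b < i) → Subsingleton (Dual.HD A M i)) :
    (∃ a b : ℤ, ∀ i : ℤ, (i < a ∨ b < i) →
      Subsingleton (Dual.HD A ((RgammaI (maximalIdeal A)).obj M) i)) ∧
    (∀ i : ℤ, LocCoh.IsPowerTorsion (maximalIdeal A)
        (Dual.HD A ((RgammaI (maximalIdeal A)).obj M) i) ∧
      Module.Finite A ↥(LocCoh.torsionBy (maximalIdeal A)
        (Dual.HD A ((RgammaI (maximalIdeal A)).obj M) i))) := by
  obtain ⟨J, a, b, hJ, hb, ⟨eJ⟩⟩ := exists_bounded_injective_model ω hω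
  haveI : J.IsStrictlyGE a := by
    rw [CochainComplex.isStrictlyGE_iff]
    intro q hq
    exact hb q (Or.inl hq)
  haveI : J.IsKInjective := CochainComplex.isKInjective_of_injective J a
  obtain ⟨c, d, hcd⟩ := hbd
  let K₀ : DRing.Cx A := Q.objPreimage M
  let eK : Q.obj K₀ ≅ M := Q.objObjPreimageIso M
  let X : DRing.Cx A := DRing.homCx K₀ J
  let eX : ∀ q : ℤ, X.homology q ≃ₗ[A] (M ⟶ ω⟦q⟧) := fun q =>
    (HomCxHom.homologyEquiv K₀ J q).trans
      (Linear.homCongr A eK ((shiftFunctor (Dual.D A) q).mapIso eJ))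
  have eH : ∀ j : ℤ, (DerivedCategory.homologyFunctor (ModuleCat.{u} A) j).obj M ≅
      K₀.homology j := fun j =>
    (DerivedCategory.homologyFunctor (ModuleCat.{u} A) j).mapIso eK.symm ≪≫
      (DerivedCategory.homologyFunctorFactors (ModuleCat.{u} A) j).app K₀
  have hK₀ : ∀ j : ℤ, (j < c ∨ d < j) → IsZero (K₀.homology j) := fun j hj => by
    haveI := hcd j hj
    exact (ModuleCat.isZero_of_subsingleton _).of_iso (eH j).symm
  have hInj : DRing.HasInjAmplitudeIn A a b ω :=
    ⟨J, hb, fun n => (Module.injective_iff_injective_object A (J.X n)).2 (hJ n), ⟨eJ⟩⟩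
  have hXfin : ∀ q : ℤ, Module.Finite A (X.homology q) := fun q => by
    haveI := Groth.Agent.Lib.Helper84.HomFinite.finite_hom M ω hfin hω.finite_cohomology
      ⟨a, b, hInj⟩ q
    exact Module.Finite.equiv (eX q).symm
  -- the comparison
  have key : ∀ i : ℤ, Nonempty (Dual.HD A ((RgammaI (maximalIdeal A)).obj M) i ≃ₗ[A]
      (X.homology (-i) →ₗ[A] E)) := fun i => by
    obtain ⟨e1⟩ := nonempty_hd_rg_equiv M i
    obtain ⟨e2⟩ := localDualityCx ω hω hn E f hf M hfin ⟨c, d, hcd⟩ i
    exact ⟨e1.trans (e2.trans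
      (LinearEquiv.arrowCongr (eX (-i)).symm (LinearEquiv.refl A E)))⟩
  refine ⟨⟨c - b, d - a, fun i hi => ?_⟩, fun i => ⟨?_, ?_⟩⟩
  · obtain ⟨e⟩ := key i
    have hz : IsZero (X.homology (-i)) := by
      rcases hi with hi | hi
      · exact BidualUnb.isZero_homology_homCx_of_ge J a b hJ hb K₀ c
          (fun j hj => hK₀ j (Or.inl hj)) (-i) (by omega)
      · exact BidualUnb.isZero_homology_homCx_of_le J a b hJ hb K₀ d
          (fun j hj => hK₀ j (Or.inr hj)) (-i) (by omega)
    haveI : Subsingleton (X.homology (-i)) := ModuleCat.subsingleton_of_isZero hz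
    haveI : Subsingleton (X.homology (-i) →ₗ[A] E) :=
      ⟨fun φ ψ => LinearMap.ext fun x => by rw [Subsingleton.elim x 0, map_zero, map_zero]⟩
    exact e.toEquiv.subsingleton
  · intro m
    exact tors_rg (maximalIdeal A) M i m
  · obtain ⟨e⟩ := key i
    haveI := hXfin (-i)
    haveI : IsArtinian A (X.homology (-i) →ₗ[A] E) := isArtinian_dual hf _
    haveI : IsArtinian A (Dual.HD A ((RgammaI (maximalIdeal A)).obj M) i) :=
      isArtinian_of_injective e.toLinearMap e.injective
    exact finite_socle_of_isArtinian' _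

omit [IsLocalRing A] [IsNoetherianRing A] [HasRgammaI (maximalIdeal A)] in
theorem isKInjective_Sg (EE : ModuleCat.{u} A) [Injective EE] : (Sg EE).IsKInjective := by
  haveI : ∀ n, Injective ((Sg EE).X n) := fun n => by
    by_cases h : n = 0
    · subst h
      exact Injective.of_iso
        (HomologicalComplex.singleObjXSelf (ComplexShape.up ℤ) (0 : ℤ) EE).symm inferInstance
    · exact (HomologicalComplex.isZero_single_obj_X _ _ _ _ h).injective
  haveI : (Sg EE).IsStrictlyGE 0 := by
    rw [CochainComplex.isStrictlyGE_iff]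
    intro q hq
    exact HomologicalComplex.isZero_single_obj_X _ _ _ _ (by omega)
  exact CochainComplex.isKInjective_of_injective (Sg EE) 0

omit [HasRgammaI (maximalIdeal A)] in
/-- `Γ_m J ≃ E[0]` for a normalized dualizing complex `J` -/
theorem exists_quasiIso_gam_Sg (ω : Dual.D A) (hω : Dual.IsDualizing A ω)
    (hn : Dual.IsNormalized A ω) (hf : IsInjectiveHull f) (J : DRing.Cx A) [J.IsKInjective]
    (eJ : Q.obj J ≅ ω) [Injective (ModuleCat.of A E)] :
    ∃ t : gam (maximalIdeal A) J ⟶ Sg (ModuleCat.of A E), QuasiIso t := by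
  let GJ : DRing.Cx A := gam (maximalIdeal A) J
  let EE : ModuleCat.{u} A := ModuleCat.of A E
  obtain ⟨⟨e0⟩, hvan⟩ := Groth.Agent.S1718.result A ω hω hn E f hf
  let eG : GJ.homology 0 ≅ EE :=
    ((hdiEquivHomology (maximalIdeal A) J ω eJ 0).symm.trans e0).toModuleIso
  have hGvan : ∀ j : ℤ, j ≠ 0 → IsZero (GJ.homology j) := fun j hj => by
    haveI := hvan j hj
    haveI : Subsingleton (GJ.homology j) :=
      (hdiEquivHomology (maximalIdeal A) J ω eJ j).symm.toEquiv.subsingleton
    exact ModuleCat.isZero_of_subsingleton _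
  exact ⟨toSgl GJ EE eG, quasiIso_toSgl GJ EE eG hGvan⟩

variable [IsAdicComplete (maximalIdeal A) A] [HasDerivedCompletion (maximalIdeal A)]

/-- **(b1), (b2)**: for `K` bounded with cofinite cohomology, `K^` is in `D^b_fg` -/
theorem partB (ω : Dual.D A) (hω : Dual.IsDualizing A ω) (hn : Dual.IsNormalized A ω)
    (hf : IsInjectiveHull f) (K : Dual.D A)
    (hbd : ∃ a b : ℤ, ∀ i : ℤ, (i < a ∨ b < i) → Subsingleton (Dual.HD A K i))
    (hcof : ∀ i : ℤ, LocCoh.IsPowerTorsion (maximalIdeal A) (Dual.HD A K i) ∧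
      Module.Finite A ↥(LocCoh.torsionBy (maximalIdeal A) (Dual.HD A K i))) :
    (∀ i : ℤ, Module.Finite A
      (Dual.HD A ((derivedCompletion (maximalIdeal A)).obj K).obj i)) ∧
    (∃ a b : ℤ, ∀ i : ℤ, (i < a ∨ b < i) → Subsingleton
      (Dual.HD A ((derivedCompletion (maximalIdeal A)).obj K).obj i)) := by
  obtain ⟨J, a, b, hJ, hb, ⟨eJ⟩⟩ := exists_bounded_injective_model ω hω
  haveI : J.IsStrictlyGE a := by
    rw [CochainComplex.isStrictlyGE_iff]
    intro q hq
    exact hb q (Or.inl hq)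
  haveI : J.IsKInjective := CochainComplex.isKInjective_of_injective J a
  have hωJ : Dual.IsDualizing A (Q.obj J) := isDualizing_of_iso eJ.symm hω
  let EE : ModuleCat.{u} A := ModuleCat.of A E
  haveI : Injective EE := (Module.injective_iff_injective_object A E).1 hf.isInjective
  haveI : (Sg EE).IsKInjective := isKInjective_Sg EE
  obtain ⟨t, ht⟩ := exists_quasiIso_gam_Sg ω hω hn hf J eJ
  haveI := ht
  obtain ⟨c, d, hcd⟩ := hbd
  let K₀ : DRing.Cx A := Q.objPreimage K
  let eK : Q.obj K₀ ≅ K := Q.objObjPreimageIso K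
  have eH : ∀ j : ℤ, (DerivedCategory.homologyFunctor (ModuleCat.{u} A) j).obj K ≅
      K₀.homology j := fun j =>
    (DerivedCategory.homologyFunctor (ModuleCat.{u} A) j).mapIso eK.symm ≪≫
      (DerivedCategory.homologyFunctorFactors (ModuleCat.{u} A) j).app K₀
  have hK₀ : ∀ j : ℤ, (j < c ∨ d < j) → IsZero (K₀.homology j) := fun j hj => by
    haveI := hcd j hj
    exact (ModuleCat.isZero_of_subsingleton _).of_iso (eH j).symm
  have hart : ∀ n : ℤ, IsArtinian A (K₀.homology n) := fun n => by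
    haveI : IsArtinian A (Dual.HD A K n) :=
      isArtinian_of_cofinite hf _ (hcof n).1 (hcof n).2
    exact isArtinian_of_injective (eH n).symm.toLinearEquiv.toLinearMap
      (eH n).symm.toLinearEquiv.injective
  -- the Matlis dual `D`
  let D : DRing.Cx A := DRing.homCx K₀ (Sg EE)
  have hDfin : ∀ q : ℤ, Module.Finite A (D.homology q) := fun q =>
    MatlisCx.finite_homology_dual hf K₀ (-q) q (by omega) (hart (-q))
  have hDz : ∀ q : ℤ, (q < -d ∨ -c < q) → IsZero (D.homology q) := fun q hq =>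
    MatlisCx.isZero_homology_dual hf K₀ (-q) q (by omega) (hK₀ (-q) (by omega))
  have eD : ∀ q : ℤ, Dual.HD A (Q.obj D) q ≃ₗ[A] D.homology q := fun q =>
    ((DerivedCategory.homologyFunctorFactors (ModuleCat.{u} A) q).app D).toLinearEquiv
  -- a finite free resolution of `D`
  have hpc : ∀ m : ℤ, DRing.IsPseudoCoherent A m (Q.obj D) := fun m =>
    ((Groth.Agent.S6942.result A m (Q.obj D) A).1).2 ⟨⟨-c, fun q hq => by
      haveI : Subsingleton (D.homology q) :=
        ModuleCat.subsingleton_of_isZero (hDz q (Or.inr hq))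
      exact (eD q).toEquiv.subsingleton⟩, fun q _ => by
      haveI := hDfin q
      exact Module.Finite.equiv (eD q).symm⟩
  obtain ⟨P, bP, hPb, hPff, ⟨eP⟩⟩ := (Groth.Agent.S2066.result (Q.obj D)).1.1 hpc
  haveI : P.IsKProjective :=
    Groth.Agent.Lib.Helper84.DRingPC.isKProjective_of_finiteFree P bP hPb hPff
  obtain ⟨u, hu⟩ := Groth.Agent.Lib.Helper84.KProj.exists_Q_map_eq P D eP.hom
  haveI : QuasiIso u := by
    rw [← DerivedCategory.isIso_Q_map_iff_quasiIso, hu]
    infer_instance
  have hKF : Groth.Agent.Lib.Helper25.KFlat.IsKFlat P :=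
    Groth.Agent.Lib.Helper25.KFlat.isKFlat_of_boundedAbove_of_flat P bP hPb (fun q => by
      haveI := (hPff q).2
      infer_instance)
  have ePD : ∀ q : ℤ, P.homology q ≅ D.homology q := fun q =>
    haveI : IsIso (HomologicalComplex.homologyMap u q) :=
      (quasiIsoAt_iff_isIso_homologyMap _ _).1 inferInstance
    asIso (HomologicalComplex.homologyMap u q)
  have hPz : ∀ q : ℤ, (q < -d ∨ -c < q) → IsZero (P.homology q) := fun q hq =>
    (hDz q hq).of_iso (ePD q)
  -- the object `M = RHom(D, ω)`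
  let L : DRing.Cx A := DRing.homCx P J
  haveI : L.IsKInjective := Groth.Agent.Lib.Helper25.RHomTensor.isKInjective_homCx P J hKF
  have eL : ∀ q : ℤ, Dual.HD A (Q.obj L) q ≃ₗ[A] L.homology q := fun q =>
    ((DerivedCategory.homologyFunctorFactors (ModuleCat.{u} A) q).app L).toLinearEquiv
  have hInj : DRing.HasInjAmplitudeIn A a b (Q.obj J) :=
    ⟨J, hb, fun n => (Module.injective_iff_injective_object A (J.X n)).2 (hJ n), ⟨Iso.refl _⟩⟩
  have hPfin : ∀ i : ℤ, Module.Finite A (Dual.HD A (Q.obj P) i) := fun i => by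
    haveI := hDfin i
    haveI : Module.Finite A (P.homology i) := Module.Finite.equiv (ePD i).toLinearEquiv.symm
    let e' : P.homology i ≃ₗ[A] Dual.HD A (Q.obj P) i :=
      ((DerivedCategory.homologyFunctorFactors (ModuleCat.{u} A) i).app P).toLinearEquiv.symm
    exact Module.Finite.equiv e'
  have hLfin : ∀ q : ℤ, Module.Finite A (Dual.HD A (Q.obj L) q) := fun q => by
    haveI := Groth.Agent.Lib.Helper84.HomFinite.finite_hom (Q.obj P) (Q.obj J) hPfin
      hωJ.finite_cohomology ⟨a, b, hInj⟩ q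
    haveI : Module.Finite A (L.homology q) :=
      Module.Finite.equiv (HomCxHom.homologyEquiv P J q).symm
    exact Module.Finite.equiv (eL q).symm
  have hLz : ∀ q : ℤ, (q < a + c ∨ b + d < q) → Subsingleton (Dual.HD A (Q.obj L) q) :=
    fun q hq => by
    have hz : IsZero (L.homology q) := by
      rcases hq with hq | hq
      · exact BidualUnb.isZero_homology_homCx_of_le J a b hJ hb P (-c)
          (fun j hj => hPz j (Or.inr hj)) q (by omega)
      · exact BidualUnb.isZero_homology_homCx_of_ge J a b hJ hb P (-d)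
          (fun j hj => hPz j (Or.inl hj)) q (by omega)
    haveI : Subsingleton (L.homology q) := ModuleCat.subsingleton_of_isZero hz
    exact (eL q).toEquiv.subsingleton
  have hMc : IsDerivedComplete (maximalIdeal A) (Q.obj L) := isDerivedComplete_of_finite _ hLfin
  -- `K ≅ RΓ_m M`
  let GJ : DRing.Cx A := gam (maximalIdeal A) J
  let t1 : (RgammaI (maximalIdeal A)).obj (Q.obj L) ≅ Q.obj (gam (maximalIdeal A) L) :=
    (asIso (uJ (maximalIdeal A) L)).symm
  let t2 : Q.obj (DRing.homCx P GJ) ≅ Q.obj (gam (maximalIdeal A) L) :=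
    Q.mapIso (gamHomIso (maximalIdeal A) P J (fun p => (hPff p).1) bP hPb a
      (fun q hq => hb q (Or.inl hq)))
  haveI : QuasiIso (DRing.homCxMap P t) :=
    Groth.Agent.Lib.Helper25.HomCxQis.quasiIso_homCxMap P t
  haveI : IsIso (Q.map (DRing.homCxMap P t)) :=
    (DerivedCategory.isIso_Q_map_iff_quasiIso _ _).2 inferInstance
  let t3 : Q.obj (DRing.homCx P GJ) ≅ Q.obj (DRing.homCx P (Sg EE)) :=
    asIso (Q.map (DRing.homCxMap P t))
  haveI : QuasiIso (Groth.Agent.Lib.Helper25.HomCxPre.homCxPre u (Sg EE)) :=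
    Groth.Agent.Lib.Helper25.RHomKInj.quasiIso_homCxPre u (Sg EE)
  haveI : IsIso (Q.map (Groth.Agent.Lib.Helper25.HomCxPre.homCxPre u (Sg EE))) :=
    (DerivedCategory.isIso_Q_map_iff_quasiIso _ _).2 inferInstance
  let t4 : Q.obj (DRing.homCx D (Sg EE)) ≅ Q.obj (DRing.homCx P (Sg EE)) :=
    asIso (Q.map (Groth.Agent.Lib.Helper25.HomCxPre.homCxPre u (Sg EE)))
  haveI : QuasiIso (EtaC.etaC (Sg EE) K₀) := MatlisCx.quasiIso_etaC_Sg hf K₀ hart
  haveI : IsIso (Q.map (EtaC.etaC (Sg EE) K₀)) :=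
    (DerivedCategory.isIso_Q_map_iff_quasiIso _ _).2 inferInstance
  let t5 : Q.obj K₀ ≅ Q.obj (DRing.homCx D (Sg EE)) := asIso (Q.map (EtaC.etaC (Sg EE) K₀))
  let θ : K ≅ (RgammaI (maximalIdeal A)).obj (Q.obj L) :=
    eK.symm ≪≫ t5 ≪≫ t4 ≪≫ t3.symm ≪≫ t2 ≪≫ t1.symm
  obtain ⟨ι⟩ := Equiv.nonempty_dc_iso_of_rg (maximalIdeal A) K (Q.obj L) θ hMc
  have eι : ∀ q : ℤ, Dual.HD A ((derivedCompletion (maximalIdeal A)).obj K).obj q ≃ₗ[A]
      Dual.HD A (Q.obj L) q := fun q =>
    ((DerivedCategory.homologyFunctor (ModuleCat.{u} A) q).mapIso ι).toLinearEquiv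
  refine ⟨fun i => ?_, ⟨a + c, b + d, fun i hi => ?_⟩⟩
  · haveI := hLfin i
    exact Module.Finite.equiv (eι i).symm
  · haveI := hLz i hi
    exact (eι i).toEquiv.subsingleton

omit [IsAdicComplete (maximalIdeal A) A] [HasDerivedCompletion (maximalIdeal A)]
  [HasRgammaI (maximalIdeal A)] [IsNoetherianRing A] in
/-- a power torsion module in degree `0` is a torsion object -/
theorem tors_inD (N : Type u) [AddCommGroup N] [Module A N]
    (hN : LocCoh.IsPowerTorsion (maximalIdeal A) N) :
    Tors (maximalIdeal A) (Dual.inD A N) := by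
  let NN : ModuleCat.{u} A := ModuleCat.of A N
  let e : Dual.inD A N ≅ Q.obj (Sg NN) :=
    (DerivedCategory.singleFunctorIsoCompQ (ModuleCat.{u} A) 0).app NN
  intro i
  refine torsion_of_iso (maximalIdeal A)
    ((DerivedCategory.homologyFunctor (ModuleCat.{u} A) i).mapIso e) ?_
  refine torsion_homology_Q (maximalIdeal A) (Sg NN) (fun n => ?_) i
  by_cases hn : n = 0
  · subst hn
    refine torsion_of_iso (maximalIdeal A)
      (HomologicalComplex.singleObjHomologySelfIso (ComplexShape.up ℤ) (0 : ℤ) NN) ?_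
    intro x
    exact hN x
  · intro m
    have hz : IsZero ((Sg NN).homology n) :=
      HomologicalComplex.isZero_single_obj_homology (ComplexShape.up ℤ) (0 : ℤ) NN n hn
    have : m = 0 := (ModuleCat.subsingleton_of_isZero hz).elim _ _
    rw [this]
    exact Submodule.zero_mem _

/-- **(c)**: the derived completion of a power torsion module is perverse coherent -/
theorem partC (ω : Dual.D A) (hω : Dual.IsDualizing A ω) (hn : Dual.IsNormalized A ω)
    (hf : IsInjectiveHull f) (N : Type u) [AddCommGroup N] [Module A N]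
    (hN : LocCoh.IsPowerTorsion (maximalIdeal A) N) (i : ℤ) (hi : i ≠ 0) :
    Subsingleton (((derivedCompletion (maximalIdeal A)).obj (Dual.inD A N)).obj ⟶ ω⟦i⟧) := by
  obtain ⟨J, a, b, hJ, hb, ⟨eJ⟩⟩ := exists_bounded_injective_model ω hω
  haveI : J.IsStrictlyGE a := by
    rw [CochainComplex.isStrictlyGE_iff]
    intro q hq
    exact hb q (Or.inl hq)
  haveI : J.IsKInjective := CochainComplex.isKInjective_of_injective J a
  let EE : ModuleCat.{u} A := ModuleCat.of A E
  haveI : Injective EE := (Module.injective_iff_injective_object A E).1 hf.isInjective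
  haveI : (Sg EE).IsKInjective := isKInjective_Sg EE
  obtain ⟨t, ht⟩ := exists_quasiIso_gam_Sg ω hω hn hf J eJ
  haveI := ht
  haveI : IsIso (Q.map t) := (DerivedCategory.isIso_Q_map_iff_quasiIso _ _).2 inferInstance
  let NN : ModuleCat.{u} A := ModuleCat.of A N
  let eN : Dual.inD A N ≅ Q.obj (Sg NN) :=
    (DerivedCategory.singleFunctorIsoCompQ (ModuleCat.{u} A) 0).app NN
  -- step 1: `Hom(N, E[0]⟦i⟧) = 0`
  have h1 : Subsingleton (Q.obj (Sg NN) ⟶ (Q.obj (Sg EE))⟦i⟧) := by
    have hz : IsZero ((Sg NN).homology (-i)) :=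
      HomologicalComplex.isZero_single_obj_homology (ComplexShape.up ℤ) (0 : ℤ) NN (-i)
        (by omega)
    haveI : Subsingleton ((Sg NN).homology (-i) ⟶ EE) := ⟨fun x y => hz.eq_of_src x y⟩
    haveI : Subsingleton ((DRing.homCx (Sg NN) (Sg EE)).homology i) :=
      (homologyEquivSgl (Sg NN) EE (show -i + i = 0 by omega)).toEquiv.subsingleton
    exact (HomCxHom.homologyEquiv (Sg NN) (Sg EE) i).symm.toEquiv.subsingleton
  have h2 : Subsingleton (Dual.inD A N ⟶ (Q.obj (Sg EE))⟦i⟧) :=
    (Iso.homCongr eN (Iso.refl _)).subsingleton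
  -- step 2: shift and pass to `RΓ_m ω`
  let T : Dual.D A := (Dual.inD A N)⟦-i⟧
  have hT : Tors (maximalIdeal A) T := tors_shift (maximalIdeal A) _ (-i) (tors_inD N hN)
  have h3 : Subsingleton (T ⟶ Q.obj (Sg EE)) :=
    (Groth.Agent.Lib.Helper88.GM1.subsingleton_shift_iff (-i) i (by omega)).2 h2
  let eR : (RgammaI (maximalIdeal A)).obj ω ≅ Q.obj (Sg EE) :=
    (RgammaI (maximalIdeal A)).mapIso eJ.symm ≪≫ (asIso (uJ (maximalIdeal A) J)).symm ≪≫
      asIso (Q.map t)
  have h4 : Subsingleton (T ⟶ (RgammaI (maximalIdeal A)).obj ω) :=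
    (Iso.homCongr (Iso.refl T) eR).subsingleton
  have h5 : Subsingleton (T ⟶ ω) :=
    (comp_ε_bij (maximalIdeal A) T hT ω).2.subsingleton
  have h6 : Subsingleton (Dual.inD A N ⟶ ω⟦i⟧) :=
    (Groth.Agent.Lib.Helper88.GM1.subsingleton_shift_iff (-i) i (by omega)).1 h5
  -- step 3: pass to the completion
  have hωc : IsDerivedComplete (maximalIdeal A) (ω⟦i⟧) :=
    comp_shift (maximalIdeal A) ω i (isDerivedComplete_of_finite ω hω.finite_cohomology)
  exact (isRefl_unit' (maximalIdeal A) (Dual.inD A N) _ hωc).1.subsingleton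

end Groth.Agent.Lib.Helper39.GMD.Cofinite
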