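import Groth.Agent.Lib.Helper39.GMD.LDUnb

/-!
# The derived `I`-adic completion of `RΓ_m(M)` (helper39)

For a Noetherian local ring `A` with normalized dualizing complex `ω`, `E` an injective hull of the
residue field and `M` a finite module, there is `K ∈ D(A)` (a model of `RHom(M, ω)`) with
`H^q(K) ≃ Ext^q(M, ω)` and `H^i((RΓ_m M)^∧) ≃ Hom_A(H^{-i}_I(K), E)`.
-/

set_option autoImplicit false
universe u

namespace Groth.Agent.Lib.Helper39.GMD.ComplLD

open CategoryTheory CategoryTheory.Limits HomologicalComplex DerivedCategory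
open InjHull IsLocalRing DRing
open Groth.Agent.Lib.Helper88.GM1 Groth.Agent.Lib.Helper88.GM2 Groth.Agent.Lib.Helper88.GM3
open Groth.Agent.Lib.Helper25.Bidual Groth.Agent.Lib.Helper25.LocColim
open Groth.Agent.Lib.Helper25.LocDual
open Groth.Agent.Lib.Helper25.HomCxPre Groth.Agent.Lib.Helper25.DCompRefl
open Groth.Agent.Lib.Helper39.LD Helper89.RGI
open Groth.Agent.Lib.Helper39.Dual
open Groth.Agent.Lib.Helper39.GMD.SymAdj Groth.Agent.Lib.Helper39.GMD.Orth
open Groth.Agent.Lib.Helper39.GMD.Main Groth.Agent.Lib.Helper39.GMD.Cofinite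
open Groth.Agent.Lib.Helper39.GMD.LDUnb

attribute [local instance] HasDerivedCategory.standard

variable {A : Type u} [CommRing A] [IsLocalRing A] [IsNoetherianRing A]
  {E : Type u} [AddCommGroup E] [Module A E] {f : ResidueField A →ₗ[A] E}

theorem exists_model (ω : Dual.D A) (hω : Dual.IsDualizing A ω) (hn : Dual.IsNormalized A ω)
    (hf : IsInjectiveHull f) (I : Ideal A) [HasRgammaI (maximalIdeal A)]
    [HasDerivedCompletion I] (M : Type u) [AddCommGroup M] [Module A M] [Module.Finite A M] :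
    ∃ K : Dual.D A,
      (∀ q : ℤ, Nonempty (Dual.HD A K q ≃ₗ[A] (Dual.inD A M ⟶ ω⟦q⟧))) ∧
      ∀ i : ℤ, Nonempty (Dual.HD A ((derivedCompletion I).obj
          ((RgammaI (maximalIdeal A)).obj (Dual.inD A M))).obj i ≃ₗ[A]
        (Dual2.HDI A I K (-i) →ₗ[A] E)) := by
  obtain ⟨J, a, b, hJ, hb, ⟨eJ⟩⟩ := exists_bounded_injective_model ω hω
  haveI : J.IsStrictlyGE a := by
    rw [CochainComplex.isStrictlyGE_iff]
    intro q hq
    exact hb q (Or.inl hq)
  haveI : J.IsKInjective := CochainComplex.isKInjective_of_injective J a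
  have hωJ : Dual.IsDualizing A (Q.obj J) := isDualizing_of_iso eJ.symm hω
  let 𝔪 := IsLocalRing.maximalIdeal A
  let MM : ModuleCat.{u} A := ModuleCat.of A M
  let X : DRing.Cx A := Dp J MM
  let iso1 : Q.obj (sglP 0 MM) ≅ Dual.inD A M :=
    ((DerivedCategory.singleFunctorIsoCompQ (ModuleCat.{u} A) 0).app MM).symm
  let eX : ∀ q : ℤ, X.homology q ≃ₗ[A] (Dual.inD A M ⟶ ω⟦q⟧) := fun q =>
    (DpHom.homologyEquiv J MM q).trans
      (Linear.homCongr A iso1 ((shiftFunctor (Dual.D A) q).mapIso eJ))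
  have hXfin : ∀ q : ℤ, Module.Finite A (Dual.HD A (Q.obj X) q) := fun q => by
    haveI := finite_hom ω hω M q
    haveI : Module.Finite A (X.homology q) := Module.Finite.equiv (eX q).symm
    let e' : X.homology q ≃ₗ[A] Dual.HD A (Q.obj X) q :=
      ((DerivedCategory.homologyFunctorFactors (ModuleCat.{u} A) q).app X).toLinearEquiv.symm
    exact Module.Finite.equiv e'
  obtain ⟨a', b', hab'⟩ := hω.finite_injective_dimension
  have hXbd : ∀ q : ℤ, b' < q → Subsingleton (Dual.HD A (Q.obj X) q) := fun q hq => by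
    haveI := hab' M q (Or.inr hq)
    haveI : Subsingleton (X.homology q) := (eX q).toEquiv.subsingleton
    let e' : Dual.HD A (Q.obj X) q ≃ₗ[A] X.homology q :=
      ((DerivedCategory.homologyFunctorFactors (ModuleCat.{u} A) q).app X).toLinearEquiv
    exact e'.toEquiv.subsingleton
  -- a finite free resolution of `X`
  have hpc : ∀ m : ℤ, DRing.IsPseudoCoherent A m (Q.obj X) := fun m =>
    ((Groth.Agent.S6942.result A m (Q.obj X) M).1).2 ⟨⟨b', hXbd⟩, fun q _ => hXfin q⟩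
  obtain ⟨P, bP, hPb, hPff, ⟨eP⟩⟩ := (Groth.Agent.S2066.result (Q.obj X)).1.1 hpc
  haveI : P.IsKProjective :=
    Groth.Agent.Lib.Helper84.DRingPC.isKProjective_of_finiteFree P bP hPb hPff
  obtain ⟨u, hu⟩ := Groth.Agent.Lib.Helper84.KProj.exists_Q_map_eq P X eP.hom
  haveI : QuasiIso u := by
    rw [← DerivedCategory.isIso_Q_map_iff_quasiIso, hu]
    infer_instance
  have hKF : Groth.Agent.Lib.Helper25.KFlat.IsKFlat P :=
    Groth.Agent.Lib.Helper25.KFlat.isKFlat_of_boundedAbove_of_flat P bP hPb (fun q => by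
      haveI := (hPff q).2
      infer_instance)
  let L : DRing.Cx A := DRing.homCx P J
  haveI : L.IsKInjective := Groth.Agent.Lib.Helper25.RHomTensor.isKInjective_homCx P J hKF
  have hq : QuasiIso ((eta J).app MM) :=
    quasiIso_of_finite (DD J) (eta J) (shortExact_map_DD J hJ) (b - a)
      (fun N j hj => isZero_DD_homology J a b hb N j hj)
      (quasiIso_eta_self J hωJ.toEnd_bijective hωJ.ext_self_subsingleton) M
  haveI : QuasiIso (homCxPre u J) := Groth.Agent.Lib.Helper25.RHomKInj.quasiIso_homCxPre u J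
  let w : (sgl0 A).obj MM ⟶ L := (eta J).app MM ≫ homCxPre u J
  haveI : IsIso (Q.map w) := by
    have h1 : IsIso (Q.map ((eta J).app MM)) :=
      (DerivedCategory.isIso_Q_map_iff_quasiIso _ _).2 hq
    have h2 : IsIso (Q.map (homCxPre u J)) :=
      (DerivedCategory.isIso_Q_map_iff_quasiIso _ _).2 inferInstance
    rw [Functor.map_comp]
    exact IsIso.comp_isIso' h1 h2
  let eL : Q.obj L ≅ Dual.inD A M := (asIso (Q.map w)).symm ≪≫ iso1
  -- `Γ_m J ≃ E[0]`
  let EE : ModuleCat.{u} A := ModuleCat.of A E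
  haveI : Injective EE := (Module.injective_iff_injective_object A E).1 hf.isInjective
  haveI : (Sg EE).IsKInjective := isKInjective_Sg EE
  have hSginj : ∀ n, Injective ((Sg EE).X n) := fun n => by
    by_cases h : n = 0
    · subst h
      exact Injective.of_iso
        (HomologicalComplex.singleObjXSelf (ComplexShape.up ℤ) (0 : ℤ) EE).symm inferInstance
    · exact (HomologicalComplex.isZero_single_obj_X _ _ _ _ h).injective
  obtain ⟨t, ht⟩ := exists_quasiIso_gam_Sg ω hω hn hf J eJ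
  haveI := ht
  let GJ' : DRing.Cx A := gam 𝔪 J
  -- `RΓ_m M ≅ Hom(P, E)`
  let t1 : (RgammaI 𝔪).obj (Q.obj L) ≅ Q.obj (gam 𝔪 L) := (asIso (uJ 𝔪 L)).symm
  let t2 : Q.obj (DRing.homCx P GJ') ≅ Q.obj (gam 𝔪 L) :=
    Q.mapIso (gamHomIso 𝔪 P J (fun p => (hPff p).1) bP hPb a
      (fun q hq => hb q (Or.inl hq)))
  haveI : QuasiIso (DRing.homCxMap P t) :=
    Groth.Agent.Lib.Helper25.HomCxQis.quasiIso_homCxMap P t
  haveI : IsIso (Q.map (DRing.homCxMap P t)) :=
    (DerivedCategory.isIso_Q_map_iff_quasiIso _ _).2 inferInstance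
  let t3 : Q.obj (DRing.homCx P GJ') ≅ Q.obj (DRing.homCx P (Sg EE)) :=
    asIso (Q.map (DRing.homCxMap P t))
  let α : (RgammaI 𝔪).obj (Dual.inD A M) ≅ Q.obj (DRing.homCx P (Sg EE)) :=
    (RgammaI 𝔪).mapIso eL.symm ≪≫ t1 ≪≫ t2.symm ≪≫ t3
  -- a K-injective model of `P`
  obtain ⟨J₀, hJ₀, -, ⟨eJ₀⟩⟩ := exists_kInj (Q.obj P)
  haveI := hJ₀
  obtain ⟨β⟩ := homCx_iso_of_Q_iso (Sg EE) eJ₀.symm
  haveI : HasRgammaI I := hasRgammaI I
  obtain ⟨γ⟩ := nonempty_completion_iso I J₀ (Sg EE) hSginj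
  let G₀ : DRing.Cx A := gammaCx I (ComplexShape.up ℤ) J₀
  let δ : ((derivedCompletion I).obj ((RgammaI 𝔪).obj (Dual.inD A M))).obj ≅
      Q.obj (DRing.homCx G₀ (Sg EE)) :=
    (ObjectProperty.ι _).mapIso ((derivedCompletion I).mapIso (α ≪≫ β)) ≪≫ γ
  refine ⟨Q.obj J₀, fun q => ?_, fun i => ?_⟩
  · -- cohomology of `K`
    let e1 : Dual.HD A (Q.obj J₀) q ≃ₗ[A] Dual.HD A (Q.obj X) q :=
      ((DerivedCategory.homologyFunctor (ModuleCat.{u} A) q).mapIso (eJ₀ ≪≫ eP)).toLinearEquiv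
    let e2 : Dual.HD A (Q.obj X) q ≃ₗ[A] X.homology q :=
      ((DerivedCategory.homologyFunctorFactors (ModuleCat.{u} A) q).app X).toLinearEquiv
    exact ⟨e1.trans (e2.trans (eX q))⟩
  · let e1 : Dual.HD A ((derivedCompletion I).obj
          ((RgammaI 𝔪).obj (Dual.inD A M))).obj i ≃ₗ[A]
        Dual.HD A (Q.obj (DRing.homCx G₀ (Sg EE))) i :=
      ((DerivedCategory.homologyFunctor (ModuleCat.{u} A) i).mapIso δ).toLinearEquiv
    let e2 : Dual.HD A (Q.obj (DRing.homCx G₀ (Sg EE))) i ≃ₗ[A]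
        (DRing.homCx G₀ (Sg EE)).homology i :=
      ((DerivedCategory.homologyFunctorFactors (ModuleCat.{u} A) i).app _).toLinearEquiv
    have hmn : -i + i = 0 := by omega
    let e3 : (DRing.homCx G₀ (Sg EE)).homology i ≃ₗ[A] (G₀.homology (-i) ⟶ EE) :=
      homologyEquivSgl G₀ EE hmn
    let e4 : (G₀.homology (-i) ⟶ EE) ≃ₗ[A] (G₀.homology (-i) →ₗ[A] E) :=
      ModuleCat.homLinearEquiv (S := A)
    let e5 : Dual2.HDI A I (Q.obj J₀) (-i) ≃ₗ[A] G₀.homology (-i) :=
      hdiEquivHomology I J₀ (Q.obj J₀) (Iso.refl _) (-i)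
    let e6 : (G₀.homology (-i) →ₗ[A] E) ≃ₗ[A] (Dual2.HDI A I (Q.obj J₀) (-i) →ₗ[A] E) :=
      LinearEquiv.arrowCongr e5.symm (LinearEquiv.refl A E)
    exact ⟨e1.trans (e2.trans (e3.trans (e4.trans e6)))⟩

end Groth.Agent.Lib.Helper39.GMD.ComplLD
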