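import Groth.Agent.Lib.Helper39.GMD.LDUnb

/-!
# Local duality core, without assuming the dualizing property (helper39)

For a complete Noetherian local ring `A`, a bounded below K-injective complex `J` of injectives
whose image in `D(A)` is derived complete, and a quasi-isomorphism `Γ_m J ⟶ E[0]`,
`Hom_{D(A)}(K, J[-i]) ≃ Hom_A(H^i_m(K), E)` for every `K ∈ D(A)`.
-/

set_option autoImplicit false
universe u

namespace Groth.Agent.Lib.Helper39.GMD.DualCrit

open CategoryTheory CategoryTheory.Limits HomologicalComplex DerivedCategory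
open InjHull IsLocalRing DRing
open Groth.Agent.Lib.Helper88.GM1 Groth.Agent.Lib.Helper88.GM2 Groth.Agent.Lib.Helper88.GM3
open Groth.Agent.Lib.Helper25.Bidual Groth.Agent.Lib.Helper25.LocColim
open Groth.Agent.Lib.Helper25.HomCxPre Groth.Agent.Lib.Helper25.DCompRefl
open Groth.Agent.Lib.Helper39.LD Helper89.RGI
open Groth.Agent.Lib.Helper39.GMD.SymAdj Groth.Agent.Lib.Helper39.GMD.Orth
open Groth.Agent.Lib.Helper39.GMD.Main Groth.Agent.Lib.Helper39.GMD.Cofinite
open Groth.Agent.Lib.Helper39.GMD.LDUnb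

attribute [local instance] HasDerivedCategory.standard

variable {A : Type u} [CommRing A] [IsLocalRing A] [IsNoetherianRing A]

/-- `Γ_m J ≃ E[0]` from the computation of the local cohomology of `J` -/
theorem exists_quasiIso_gam_Sg' (J : DRing.Cx A) (EE : ModuleCat.{u} A) [Injective EE]
    (eG : (gam (maximalIdeal A) J).homology 0 ≅ EE)
    (hGvan : ∀ j : ℤ, j ≠ 0 → IsZero ((gam (maximalIdeal A) J).homology j)) :
    ∃ t : gam (maximalIdeal A) J ⟶ Sg EE, QuasiIso t :=
  ⟨toSgl (gam (maximalIdeal A) J) EE eG, quasiIso_toSgl (gam (maximalIdeal A) J) EE eG hGvan⟩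

/-- **local duality core** -/
theorem localDualityCore (J : DRing.Cx A) (a : ℤ) [J.IsStrictlyGE a] [J.IsKInjective]
    (hJ : ∀ n, Injective (J.X n)) (hJc : IsDerivedComplete (maximalIdeal A) (Q.obj J))
    (EE : ModuleCat.{u} A) [Injective EE]
    (t : gam (maximalIdeal A) J ⟶ Sg EE) [QuasiIso t] (K : Dual.D A) (i : ℤ) :
    Nonempty ((K ⟶ (Q.obj J)⟦(-i)⟧) ≃ₗ[A]
      (Dual2.HDI A (maximalIdeal A) K i →ₗ[A] EE)) := by
  haveI : HasRgammaI (maximalIdeal A) := hasRgammaI _
  haveI : (Sg EE).IsKInjective := isKInjective_Sg EE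
  obtain ⟨L, hL, hLinj, ⟨eL⟩⟩ := exists_kInj K
  haveI := hL
  let GmL : DRing.Cx A := gam (maximalIdeal A) L
  let GmJ : DRing.Cx A := gam (maximalIdeal A) J
  -- step 1
  let e1 : (DRing.homCx L J).homology (-i) ≃ₗ[A] (K ⟶ (Q.obj J)⟦(-i)⟧) :=
    (HomCxHom.homologyEquiv L J (-i)).trans
      (Linear.homCongr A eL (Iso.refl _))
  -- step 2
  haveI : QuasiIso (homCxPre (gammaCxι (maximalIdeal A) (ComplexShape.up ℤ) L) J) :=
    quasiIso_homCxPre_gammaCxι (maximalIdeal A) L J hJ hJc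
  haveI : IsIso (HomologicalComplex.homologyMap
      (homCxPre (gammaCxι (maximalIdeal A) (ComplexShape.up ℤ) L) J) (-i)) :=
    (quasiIsoAt_iff_isIso_homologyMap _ _).1 inferInstance
  let e2 : (DRing.homCx L J).homology (-i) ≃ₗ[A] (DRing.homCx GmL J).homology (-i) :=
    (asIso (HomologicalComplex.homologyMap
      (homCxPre (gammaCxι (maximalIdeal A) (ComplexShape.up ℤ) L) J) (-i))).toLinearEquiv
  -- step 3
  haveI : IsIso (T (maximalIdeal A) GmL J) :=
    isIso_T_of_torsion (maximalIdeal A) GmL J (fun p x => by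
      obtain ⟨k, hk⟩ := (show (DRing.torsionSub (maximalIdeal A) (L.X p)) from x).2
      exact ⟨k, fun a ha => Subtype.ext (hk a ha)⟩)
  let e3 : (DRing.homCx GmL GmJ).homology (-i) ≃ₗ[A] (DRing.homCx GmL J).homology (-i) :=
    (asIso (HomologicalComplex.homologyMap (T (maximalIdeal A) GmL J) (-i))).toLinearEquiv
  -- step 4
  haveI : ∀ n, Injective (GmJ.X n) := fun n => injective_gammaCx_X (maximalIdeal A) J hJ n
  haveI : GmJ.IsStrictlyGE a := by
    rw [CochainComplex.isStrictlyGE_iff]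
    intro q hq
    haveI : Subsingleton (J.X q) :=
      ModuleCat.subsingleton_of_isZero (CochainComplex.isZero_of_isStrictlyGE J a q hq)
    haveI : Subsingleton (GmJ.X q) :=
      ⟨fun x y => Subtype.ext (Subsingleton.elim (α := J.X q) x.1 y.1)⟩
    exact ModuleCat.isZero_of_subsingleton _
  haveI : GmJ.IsKInjective := CochainComplex.isKInjective_of_injective GmJ a
  obtain ⟨θ⟩ := homCx_iso_of_quasiIso_right GmL t
  let e4 : (DRing.homCx GmL GmJ).homology (-i) ≃ₗ[A] (DRing.homCx GmL (Sg EE)).homology (-i) :=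
    (((DerivedCategory.homologyFunctorFactors (ModuleCat.{u} A) (-i)).app
        (DRing.homCx GmL GmJ)).symm ≪≫
      (DerivedCategory.homologyFunctor (ModuleCat.{u} A) (-i)).mapIso θ ≪≫
      (DerivedCategory.homologyFunctorFactors (ModuleCat.{u} A) (-i)).app
        (DRing.homCx GmL (Sg EE))).toLinearEquiv
  -- step 5
  let e5 : (DRing.homCx GmL (Sg EE)).homology (-i) ≃ₗ[A] (GmL.homology i ⟶ EE) :=
    homologyEquivSgl GmL EE (show i + -i = 0 by omega)
  let e6 : (GmL.homology i ⟶ EE) ≃ₗ[A] (GmL.homology i →ₗ[A] EE) :=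
    ModuleCat.homLinearEquiv (S := A)
  let e7 : Dual2.HDI A (maximalIdeal A) K i ≃ₗ[A] GmL.homology i :=
    hdiEquivHomology (maximalIdeal A) L K eL i
  let e8 : (GmL.homology i →ₗ[A] EE) ≃ₗ[A] (Dual2.HDI A (maximalIdeal A) K i →ₗ[A] EE) :=
    LinearEquiv.arrowCongr e7.symm (LinearEquiv.refl A EE)
  exact ⟨e1.symm.trans (e2.trans (e3.symm.trans (e4.trans (e5.trans (e6.trans e8)))))⟩

end Groth.Agent.Lib.Helper39.GMD.DualCrit
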