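import Groth.Agent.Lib.Helper39.GMD.DualCrit1

/-!
# Recognising the injective hull of the residue field (helper39)

A power torsion module `Y` over a Noetherian local ring with one-dimensional socle and
`Ext^1(k, Y) = 0` is isomorphic to the injective hull `E` of the residue field.
-/

set_option autoImplicit false
universe u

namespace Groth.Agent.Lib.Helper39.GMD.DualCrit

open CategoryTheory CategoryTheory.Limits HomologicalComplex DerivedCategory
open InjHull IsLocalRing
open Groth.Agent.Lib.Helper85.Matlis

attribute [local instance] HasDerivedCategory.standard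

variable {A : Type u} [CommRing A] [IsLocalRing A] [IsNoetherianRing A]
  {E : Type u} [AddCommGroup E] [Module A E] {f : ResidueField A →ₗ[A] E}

/-- a linear map out of the residue field is determined by its value at `1` -/
theorem residue_hom_ext {Y : Type u} [AddCommGroup Y] [Module A Y]
    (φ ψ : ResidueField A →ₗ[A] Y) (h : φ 1 = ψ 1) : φ = ψ := by
  ext c
  obtain ⟨a, rfl⟩ := residue_eq_smul_one c
  rw [map_smul, map_smul, h]

/-- the map `k → Y` attached to a socle element -/
noncomputable def socleHom {Y : Type u} [AddCommGroup Y] [Module A Y] (s : Y)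
    (hs : s ∈ LocCoh.torsionBy (maximalIdeal A) Y) : ResidueField A →ₗ[A] Y :=
  Submodule.liftQ (maximalIdeal A) (LinearMap.toSpanSingleton A Y s) (by
    intro a ha
    rw [LinearMap.mem_ker, LinearMap.toSpanSingleton_apply]
    rw [Submodule.mem_torsionBySet_iff] at hs
    exact hs ⟨a, ha⟩)

theorem socleHom_one {Y : Type u} [AddCommGroup Y] [Module A Y] (s : Y)
    (hs : s ∈ LocCoh.torsionBy (maximalIdeal A) Y) : socleHom s hs 1 = s := by
  change Submodule.liftQ (maximalIdeal A) (LinearMap.toSpanSingleton A Y s) _
    (Submodule.Quotient.mk 1) = s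
  rw [Submodule.liftQ_apply, LinearMap.toSpanSingleton_apply, one_smul]

theorem hom_residue_mem_socle {Y : Type u} [AddCommGroup Y] [Module A Y]
    (φ : ResidueField A →ₗ[A] Y) (c : ResidueField A) :
    φ c ∈ LocCoh.torsionBy (maximalIdeal A) Y := by
  rw [Submodule.mem_torsionBySet_iff]
  rintro ⟨a, ha⟩
  change a • φ c = 0
  rw [← map_smul, mem_maximalIdeal_smul_residue a ha, map_zero]

/-- **embedding**: a power torsion module whose `Hom(k, -)` is cyclic embeds into `E` -/
theorem exists_embedding_of_cyclic (hf : IsInjectiveHull f) (Y : Type u) [AddCommGroup Y]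
    [Module A Y] (hY : LocCoh.IsPowerTorsion (maximalIdeal A) Y)
    (φ₀ : ResidueField A →ₗ[A] Y)
    (hgen : ∀ φ : ResidueField A →ₗ[A] Y, ∃ b : A, φ = b • φ₀) :
    ∃ g : Y →ₗ[A] E, Function.Injective g := by
  haveI := hf.isInjective
  let S : Submodule A Y := LocCoh.torsionBy (maximalIdeal A) Y
  -- every socle element is a multiple of `φ₀ 1`
  have hS : ∀ s ∈ S, ∃ b : A, s = b • φ₀ 1 := by
    intro s hs
    obtain ⟨b, hb⟩ := hgen (socleHom s hs)
    refine ⟨b, ?_⟩
    rw [← socleHom_one s hs, hb, LinearMap.smul_apply]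
  -- the map `h : S → E`
  by_cases h0 : φ₀ 1 = 0
  · -- the socle vanishes, hence `Y = 0`
    refine ⟨0, fun x y _ => ?_⟩
    have key : ∀ z : Y, z = 0 := by
      intro z
      by_contra hz
      obtain ⟨a, haz, haS⟩ := exists_smul_mem_socle hY z hz
      obtain ⟨b, hb⟩ := hS _ haS
      rw [h0, smul_zero] at hb
      exact haz hb
    rw [key x, key y]
  · have hinj : Function.Injective φ₀ := by
      rw [← LinearMap.ker_eq_bot, eq_bot_iff]
      intro c hc
      rw [Submodule.mem_bot]
      by_contra hc0
      obtain ⟨a, rfl⟩ := residue_eq_smul_one c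
      have ha : a ∉ maximalIdeal A := by
        intro ha
        exact hc0 (mem_maximalIdeal_smul_residue a ha 1)
      have hu : IsUnit a := by
        by_contra hnu
        exact ha ((IsLocalRing.mem_maximalIdeal a).2 hnu)
      have h1 : a • φ₀ 1 = 0 := by
        rw [← map_smul]
        exact hc
      exact h0 ((hu.smul_eq_zero).1 h1)
    let φS : ResidueField A →ₗ[A] S :=
      LinearMap.codRestrict S φ₀ (fun c => hom_residue_mem_socle φ₀ c)
    have hφS : Function.Bijective φS := by
      constructor
      · intro c c' h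
        exact hinj (congrArg Subtype.val h)
      · rintro ⟨s, hs⟩
        obtain ⟨b, hb⟩ := hS s hs
        refine ⟨b • 1, Subtype.ext ?_⟩
        change φ₀ (b • 1) = s
        rw [map_smul, hb]
    let eS : ResidueField A ≃ₗ[A] S := LinearEquiv.ofBijective φS hφS
    let h : S →ₗ[A] E := f ∘ₗ eS.symm.toLinearMap
    obtain ⟨g, hg⟩ := Module.Injective.extension_property A E _ _ S.subtype
      (Submodule.subtype_injective _) h
    refine ⟨g, ?_⟩
    rw [← LinearMap.ker_eq_bot, eq_bot_iff]
    intro x hx
    rw [Submodule.mem_bot]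
    by_contra hx0
    obtain ⟨a, hax, haS⟩ := exists_smul_mem_socle hY x hx0
    rw [LinearMap.mem_ker] at hx
    have h1 : g (a • x) = 0 := by rw [map_smul, hx, smul_zero]
    have h2 : g (a • x) = h ⟨a • x, haS⟩ := by
      rw [← hg]
      rfl
    rw [h1] at h2
    have h3 : eS.symm ⟨a • x, haS⟩ = 0 :=
      hf.injective (h2.symm.trans (map_zero f).symm)
    have h4 : (⟨a • x, haS⟩ : S) = 0 := by
      rw [← eS.apply_symm_apply ⟨a • x, haS⟩, h3, map_zero]
    exact hax (congrArg Subtype.val h4)

/-- **surjectivity**: an embedding `Y ↪ E` of a nonzero module is surjective as soon as maps from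
the residue field to the cokernel lift to `E` -/
theorem surjective_of_lifting (hf : IsInjectiveHull f) (Y : Type u) [AddCommGroup Y]
    [Module A Y] [Nontrivial Y] (g : Y →ₗ[A] E) (hg : Function.Injective g)
    (hlift : ∀ γ : ResidueField A →ₗ[A] (E ⧸ LinearMap.range g),
      ∃ ψ : ResidueField A →ₗ[A] E, (LinearMap.range g).mkQ ∘ₗ ψ = γ) :
    Function.Surjective g := by
  have hess := hf.toIsEssentialInj
  have hne : LinearMap.range g ≠ ⊥ := by
    intro h
    obtain ⟨y, hy⟩ := exists_ne (0 : Y)
    have : g y ∈ (⊥ : Submodule A E) := h ▸ LinearMap.mem_range_self g y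
    rw [Submodule.mem_bot] at this
    exact hy (hg (this.trans (map_zero g).symm))
  have hle : LinearMap.range f ≤ LinearMap.range g := range_le_of_ne_bot hess _ hne
  -- the cokernel is power torsion
  have hC : LocCoh.IsPowerTorsion (maximalIdeal A) (E ⧸ LinearMap.range g) := by
    intro c
    obtain ⟨e, rfl⟩ := Submodule.Quotient.mk_surjective _ c
    obtain ⟨n, hn⟩ := isPowerTorsion hess e
    refine ⟨n, fun a ha => ?_⟩
    rw [← Submodule.Quotient.mk_smul, hn a ha, Submodule.Quotient.mk_zero]
  have key : ∀ c : E ⧸ LinearMap.range g, c = 0 := by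
    intro c
    by_contra hc
    obtain ⟨a, hac, haS⟩ := exists_smul_mem_socle hC c hc
    obtain ⟨ψ, hψ⟩ := hlift (socleHom (a • c) haS)
    have h1 : ψ 1 ∈ LinearMap.range g := by
      apply hle
      rw [← socle_eq_range hess]
      exact hom_residue_mem_socle ψ 1
    have h2 : (LinearMap.range g).mkQ (ψ 1) = a • c := by
      have := congrArg (fun θ => θ 1) hψ
      simp only [LinearMap.comp_apply] at this
      rw [this, socleHom_one]
    rw [Submodule.mkQ_apply, (Submodule.Quotient.mk_eq_zero _).2 h1] at h2
    exact hac h2.symm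
  intro e
  have := key (Submodule.Quotient.mk e)
  rw [Submodule.Quotient.mk_eq_zero] at this
  exact this

end Groth.Agent.Lib.Helper39.GMD.DualCrit
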