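import Groth.Agent.Lib.Helper39.GMD.DualCrit2

/-!
# Lifting maps from the residue field along a quotient, from `Ext^1` vanishing (helper39)
-/

set_option autoImplicit false
universe u

namespace Groth.Agent.Lib.Helper39.GMD.DualCrit

open CategoryTheory CategoryTheory.Limits HomologicalComplex DerivedCategory
open CategoryTheory.Pretriangulated
open InjHull IsLocalRing
open Groth.Agent.Lib.Helper85.Matlis

attribute [local instance] HasDerivedCategory.standard

variable {A : Type u} [CommRing A]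

/-- maps `N → E/im(g)` lift to `E` when `Ext^1(N, Y) = 0` -/
theorem exists_lift_of_ext_vanishing (N Y E : Type u) [AddCommGroup N] [Module A N]
    [AddCommGroup Y] [Module A Y] [AddCommGroup E] [Module A E]
    (g : Y →ₗ[A] E) (hg : Function.Injective g)
    (hext : Subsingleton (Dual.inD A N ⟶ (Dual.inD A Y)⟦(1 : ℤ)⟧))
    (γ : N →ₗ[A] (E ⧸ LinearMap.range g)) :
    ∃ ψ : N →ₗ[A] E, (LinearMap.range g).mkQ ∘ₗ ψ = γ := by
  let S : ShortComplex (ModuleCat.{u} A) :=
    ShortComplex.mk (ModuleCat.ofHom g) (ModuleCat.ofHom (LinearMap.range g).mkQ) (by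
      ext y
      change (LinearMap.range g).mkQ (g y) = 0
      rw [Submodule.mkQ_apply, Submodule.Quotient.mk_eq_zero]
      exact LinearMap.mem_range_self g y)
  have hS : S.ShortExact := by
    haveI : Mono S.f := (ModuleCat.mono_iff_injective _).2 hg
    haveI : Epi S.g := (ModuleCat.epi_iff_surjective _).2 (Submodule.mkQ_surjective _)
    refine ShortComplex.ShortExact.mk ?_
    rw [ShortComplex.moduleCat_exact_iff_range_eq_ker]
    change LinearMap.range g = LinearMap.ker (LinearMap.range g).mkQ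
    rw [Submodule.ker_mkQ]
  have hT := hS.singleTriangle_distinguished
  let γ' : Dual.inD A N ⟶ hS.singleTriangle.obj₃ :=
    (singleFunctor (ModuleCat.{u} A) 0).map (ModuleCat.ofHom γ)
  have hγ' : γ' ≫ hS.singleTriangle.mor₃ = 0 :=
    Subsingleton.elim (α := Dual.inD A N ⟶ (Dual.inD A Y)⟦(1 : ℤ)⟧) _ _
  obtain ⟨ψ', hψ'⟩ := Triangle.coyoneda_exact₃ _ hT γ' hγ'
  obtain ⟨ψ₀, hψ₀⟩ := (singleFunctor (ModuleCat.{u} A) 0).map_surjective ψ'
  refine ⟨ψ₀.hom, ?_⟩
  have h1 : (singleFunctor (ModuleCat.{u} A) 0).map (ModuleCat.ofHom γ) =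
      (singleFunctor (ModuleCat.{u} A) 0).map (ψ₀ ≫ S.g) := by
    rw [Functor.map_comp, hψ₀]
    exact hψ'
  have h2 := (singleFunctor (ModuleCat.{u} A) 0).map_injective h1
  have h3 := congrArg ModuleCat.Hom.hom h2
  exact h3.symm

end Groth.Agent.Lib.Helper39.GMD.DualCrit
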