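import Groth.Agent.Lib.Helper39.GMD.DualCrit3
import Groth.Agent.Lib.Helper39.Dual.HDIOmega

/-!
# `Γ_m J ≃ E[0]` from `RHom(k, J) = k[0]` (helper39)
-/

set_option autoImplicit false
universe u

namespace Groth.Agent.Lib.Helper39.GMD.DualCrit

open CategoryTheory CategoryTheory.Limits HomologicalComplex DerivedCategory
open CategoryTheory.Pretriangulated
open InjHull IsLocalRing DRing
open Groth.Agent.Lib.Helper85.Matlis
open Groth.Agent.Lib.Helper88.GM1 Groth.Agent.Lib.Helper88.GM2 Groth.Agent.Lib.Helper88.GM3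
open Groth.Agent.Lib.Helper25.LocColim
open Groth.Agent.Lib.Helper39.LD Helper89.RGI
open Groth.Agent.Lib.Helper39.GMD.Main Groth.Agent.Lib.Helper39.GMD.Cofinite
open Groth.Agent.Lib.Helper39.GMD.LDUnb

attribute [local instance] HasDerivedCategory.standard

section General

variable {A : Type u} [CommRing A] [IsNoetherianRing A] (I : Ideal A)

/-- maps from torsion objects to `J` factor uniquely through `Γ_I J` -/
theorem bijective_comp_Q_gammaCxι (J₀ : DRing.Cx A) [J₀.IsKInjective] (L : Dual.D A)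
    (hL : Tors I L) :
    Function.Bijective
      (fun φ : L ⟶ Q.obj (gammaCx I (ComplexShape.up ℤ) J₀) =>
        φ ≫ Q.map (gammaCxι I (ComplexShape.up ℤ) J₀)) := by
  haveI : HasRgammaI I := hasRgammaI I
  have h1 := comp_ε_bij I L hL (Q.obj J₀)
  have h2 : Function.Bijective (fun φ : L ⟶ Q.obj (gammaCx I _ J₀) => φ ≫ uJ I J₀) :=
    ⟨fun a b h => (cancel_mono (uJ I J₀)).1 h,
      fun b => ⟨b ≫ inv (uJ I J₀), by simp⟩⟩
  have h3 : (fun φ : L ⟶ Q.obj (gammaCx I _ J₀) => φ ≫ Q.map (gammaCxι I _ J₀)) =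
      (fun g : L ⟶ (RgammaI I).obj (Q.obj J₀) => g ≫ (RgammaIε I).app (Q.obj J₀)) ∘
        (fun φ : L ⟶ Q.obj (gammaCx I _ J₀) => φ ≫ uJ I J₀) := by
    funext φ
    change _ = (φ ≫ uJ I J₀) ≫ (RgammaIε I).app (Q.obj J₀)
    rw [Category.assoc, uJ_ε]
  rw [h3]
  exact h1.comp h2

end General

variable {A : Type u} [CommRing A] [IsLocalRing A] [IsNoetherianRing A]
  {E : Type u} [AddCommGroup E] [Module A E] {f : ResidueField A →ₗ[A] E}

/-- the residue field is power torsion -/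
theorem isPowerTorsion_residueField :
    LocCoh.IsPowerTorsion (maximalIdeal A) (ResidueField A) := by
  intro c
  refine ⟨1, fun a ha => ?_⟩
  rw [pow_one] at ha
  exact mem_maximalIdeal_smul_residue a ha c

/-- **`Γ_m J ≃ E[0]`** when `Hom(k, J[i]) = 0` for `i ≠ 0` and `Hom(k, J)` is cyclic and nonzero -/
theorem exists_quasiIso_gam_Sg_of_cyclic (hf : IsInjectiveHull f) (J : DRing.Cx A)
    [J.IsKInjective] (hn : Dual.IsNormalized A (Q.obj J))
    (x₀ : Dual.inD A (ResidueField A) ⟶ Q.obj J) (hx₀ : x₀ ≠ 0)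
    (hgen : ∀ y : Dual.inD A (ResidueField A) ⟶ Q.obj J, ∃ b : A, y = b • x₀)
    [Injective (ModuleCat.of A E)] :
    ∃ t : gam (maximalIdeal A) J ⟶ Sg (ModuleCat.of A E), QuasiIso t := by
  let 𝔪 := maximalIdeal A
  let G : DRing.Cx A := gam 𝔪 J
  let κ : Dual.D A := Dual.inD A (ResidueField A)
  -- vanishing of the local cohomology away from degree `0`
  have hGvan : ∀ j : ℤ, j ≠ 0 → IsZero (G.homology j) := fun j hj => by
    haveI : Subsingleton (Dual2.HDI A 𝔪 (Q.obj J) j) :=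
      Groth.Agent.Lib.Helper39.Dual.subsingleton_hdi _ (Q.obj J) j (fun n =>
        Groth.Agent.Lib.Helper25.LocDual.subsingleton_hom_of_isFiniteLength ((Q.obj J)⟦j⟧)
          (hn j hj) (A ⧸ 𝔪 ^ n) (Groth.Agent.Lib.Helper85.Matlis.isFiniteLength_quot_pow n))
    haveI : Subsingleton (G.homology j) :=
      (hdiEquivHomology 𝔪 J (Q.obj J) (Iso.refl _) j).symm.toEquiv.subsingleton
    exact ModuleCat.isZero_of_subsingleton _
  have hQG : ∀ j : ℤ, j ≠ 0 →
      IsZero ((DerivedCategory.homologyFunctor (ModuleCat.{u} A) j).obj (Q.obj G)) :=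
    fun j hj => (hGvan j hj).of_iso
      ((DerivedCategory.homologyFunctorFactors (ModuleCat.{u} A) j).app G)
  haveI : (Q.obj G).IsGE 0 := by
    rw [DerivedCategory.isGE_iff]
    intro i hi
    exact hQG i (by omega)
  haveI : (Q.obj G).IsLE 0 := by
    rw [DerivedCategory.isLE_iff]
    intro i hi
    exact hQG i (by omega)
  obtain ⟨Y, ⟨e⟩⟩ := DerivedCategory.exists_iso_singleFunctor_obj_of_isGE_of_isLE (Q.obj G) 0
  -- `Y ≅ H^0(Γ_m J)`
  let eY : Y ≅ G.homology 0 :=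
    ((DerivedCategory.singleFunctorCompHomologyFunctorIso (ModuleCat.{u} A) 0).app Y).symm ≪≫
      (DerivedCategory.homologyFunctor (ModuleCat.{u} A) 0).mapIso e.symm ≪≫
      (DerivedCategory.homologyFunctorFactors (ModuleCat.{u} A) 0).app G
  have hYt : LocCoh.IsPowerTorsion 𝔪 Y := fun y =>
    torsion_of_iso 𝔪 eY (homology_gammaCx_torsion 𝔪 J 0) y
  -- torsion objects
  have hκ : Tors 𝔪 κ := tors_inD (ResidueField A) isPowerTorsion_residueField
  have hκ1 : Tors 𝔪 (κ⟦(-1 : ℤ)⟧) := tors_shift 𝔪 κ (-1) hκ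
  -- `Hom(k, Y)` is cyclic
  have hb0 := bijective_comp_Q_gammaCxι 𝔪 J κ hκ
  let Ψ : (ResidueField A →ₗ[A] Y) ≃ₗ[A] (κ ⟶ Q.obj J) :=
    ((Groth.Agent.Lib.Helper39.Dual.homSingleEquiv (B := A) (ResidueField A) Y).trans
      (Linear.homCongr A (Iso.refl κ) e.symm)).trans
      (LinearEquiv.ofBijective (Linear.rightComp A κ (Q.map (gammaCxι 𝔪 (ComplexShape.up ℤ) J)))
        hb0)
  let φ₀ : ResidueField A →ₗ[A] Y := Ψ.symm x₀
  have hφ₀ : φ₀ ≠ 0 := by
    intro h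
    apply hx₀
    rw [← Ψ.apply_symm_apply x₀]
    change Ψ φ₀ = 0
    rw [h, map_zero]
  have hφgen : ∀ φ : ResidueField A →ₗ[A] Y, ∃ b : A, φ = b • φ₀ := by
    intro φ
    obtain ⟨b, hb⟩ := hgen (Ψ φ)
    refine ⟨b, ?_⟩
    apply Ψ.injective
    rw [map_smul, hb]
    change b • x₀ = b • Ψ (Ψ.symm x₀)
    rw [Ψ.apply_symm_apply]
  haveI : Nontrivial Y := by
    by_contra hnt
    rw [not_nontrivial_iff_subsingleton] at hnt
    apply hφ₀
    ext c
    exact Subsingleton.elim _ _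
  -- `Ext^1(k, Y) = 0`
  have hext : Subsingleton (κ ⟶ (Dual.inD A Y)⟦(1 : ℤ)⟧) := by
    have h1 : Subsingleton (κ ⟶ (Q.obj J)⟦(1 : ℤ)⟧) := hn 1 one_ne_zero
    have h2 : Subsingleton (κ⟦(-1 : ℤ)⟧ ⟶ Q.obj J) :=
      (subsingleton_shift_iff (-1) 1 (by omega)).2 h1
    have h3 : Subsingleton (κ⟦(-1 : ℤ)⟧ ⟶ Q.obj G) :=
      ⟨fun a b => (bijective_comp_Q_gammaCxι 𝔪 J _ hκ1).1 (h2.elim _ _)⟩
    have h4 : Subsingleton (κ ⟶ (Q.obj G)⟦(1 : ℤ)⟧) :=
      (subsingleton_shift_iff (-1) 1 (by omega)).1 h3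
    exact (Iso.homCongr (Iso.refl κ) ((shiftFunctor (Dual.D A) (1 : ℤ)).mapIso e.symm)).subsingleton
  -- `Y ≃ E`
  obtain ⟨g, hg⟩ := exists_embedding_of_cyclic hf Y hYt φ₀ hφgen
  have hsurj : Function.Surjective g :=
    surjective_of_lifting hf Y g hg
      (fun γ => exists_lift_of_ext_vanishing (ResidueField A) Y E g hg hext γ)
  let eYE : Y ≃ₗ[A] E := LinearEquiv.ofBijective g ⟨hg, hsurj⟩
  exact exists_quasiIso_gam_Sg' J (ModuleCat.of A E) (eY.symm ≪≫ eYE.toModuleIso) hGvan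

end Groth.Agent.Lib.Helper39.GMD.DualCrit
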