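import Groth.Agent.Lib.Helper39.GMD.DualCrit4
import Groth.Agent.Lib.Helper85.MatlisDual

/-!
# The dualizing criterion over a complete local ring, for a bounded injective model (helper39)
-/

set_option autoImplicit false
universe u

namespace Groth.Agent.Lib.Helper39.GMD.DualCrit

open CategoryTheory CategoryTheory.Limits HomologicalComplex DerivedCategory
open CategoryTheory.Pretriangulated
open InjHull IsLocalRing DRing
open Groth.Agent.Lib.Helper85.Matlis
open Groth.Agent.Lib.Helper88.GM1 Groth.Agent.Lib.Helper88.GM2 Groth.Agent.Lib.Helper88.GM3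
open Groth.Agent.Lib.Helper25.LocColim
open Groth.Agent.Lib.Helper39.LD Helper89.RGI
open Groth.Agent.Lib.Helper39.GMD.Main Groth.Agent.Lib.Helper39.GMD.Cofinite
open Groth.Agent.Lib.Helper39.GMD.LDUnb

attribute [local instance] HasDerivedCategory.standard

variable {A : Type u} [CommRing A] [IsLocalRing A] [IsNoetherianRing A]
  [IsAdicComplete (maximalIdeal A) A]
  {E : Type u} [AddCommGroup E] [Module A E] {f : ResidueField A →ₗ[A] E}

/-- Matlis: `A ≃ End(E)` over a complete local ring -/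
theorem bijective_toEnd_hull (hf : IsInjectiveHull f) :
    Function.Bijective (LinearMap.toSpanSingleton A (E →ₗ[A] E) LinearMap.id) := by
  constructor
  · rw [← LinearMap.ker_eq_bot, eq_bot_iff]
    intro r hr
    rw [LinearMap.mem_ker, LinearMap.toSpanSingleton_apply] at hr
    have h1 : r ∈ (⊥ : Ideal A) := by
      apply mem_of_forall_smul_eq_zero hf ⊥ r
      intro e _
      have := congrArg (fun φ : E →ₗ[A] E => φ e) hr
      simpa using this
    exact h1
  · intro φ
    obtain ⟨r, hr⟩ := end_eq_smul hf φ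
    refine ⟨r, ?_⟩
    ext e
    rw [LinearMap.toSpanSingleton_apply, LinearMap.smul_apply, LinearMap.id_apply, hr e]

/-- the criterion for `Q J`, `J` a bounded below K-injective complex of injectives -/
theorem isDualizing_Q_of_model (hf : IsInjectiveHull f) (J : DRing.Cx A) (a : ℤ)
    [J.IsStrictlyGE a] [J.IsKInjective] (hJ : ∀ n, Injective (J.X n))
    (hfin : ∀ i : ℤ, Module.Finite A (Dual.HD A (Q.obj J) i))
    (hfid : ∃ a b : ℤ, ∀ (M : Type u) [AddCommGroup M] [Module A M] (i : ℤ),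
      (i < a ∨ b < i) → Subsingleton (Dual.inD A M ⟶ (Q.obj J)⟦i⟧))
    (hn : Dual.IsNormalized A (Q.obj J))
    (x₀ : Dual.inD A (ResidueField A) ⟶ Q.obj J) (hx₀ : x₀ ≠ 0)
    (hgen : ∀ y : Dual.inD A (ResidueField A) ⟶ Q.obj J, ∃ b : A, y = b • x₀) :
    Dual.IsDualizing A (Q.obj J) := by
  let 𝔪 := maximalIdeal A
  let EE : ModuleCat.{u} A := ModuleCat.of A E
  haveI : Injective EE := (Module.injective_iff_injective_object A E).1 hf.isInjective
  obtain ⟨t, ht⟩ := exists_quasiIso_gam_Sg_of_cyclic hf J hn x₀ hx₀ hgen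
  haveI := ht
  have hJc : IsDerivedComplete 𝔪 (Q.obj J) := isDerivedComplete_of_finite _ hfin
  let G : DRing.Cx A := gam 𝔪 J
  -- local cohomology of `Q J`
  have hHvan : ∀ j : ℤ, j ≠ 0 → Subsingleton (Dual2.HDI A 𝔪 (Q.obj J) j) := fun j hj =>
    Groth.Agent.Lib.Helper39.Dual.subsingleton_hdi _ (Q.obj J) j (fun n =>
      Groth.Agent.Lib.Helper25.LocDual.subsingleton_hom_of_isFiniteLength ((Q.obj J)⟦j⟧)
        (hn j hj) (A ⧸ 𝔪 ^ n) (Groth.Agent.Lib.Helper85.Matlis.isFiniteLength_quot_pow n))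
  haveI : IsIso (HomologicalComplex.homologyMap t 0) :=
    (quasiIsoAt_iff_isIso_homologyMap _ _).1 inferInstance
  let eH0 : Dual2.HDI A 𝔪 (Q.obj J) 0 ≃ₗ[A] E :=
    (hdiEquivHomology 𝔪 J (Q.obj J) (Iso.refl _) 0).trans
      (asIso (HomologicalComplex.homologyMap t 0) ≪≫
        HomologicalComplex.singleObjHomologySelfIso (ComplexShape.up ℤ) 0 EE).toLinearEquiv
  -- self maps of nonzero degree
  have hself : ∀ n : ℤ, n ≠ 0 → Subsingleton (Q.obj J ⟶ (Q.obj J)⟦n⟧) := by
    intro n hn0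
    have h := localDualityCore J a hJ hJc EE t (Q.obj J) (-n)
    rw [neg_neg] at h
    obtain ⟨θ⟩ := h
    haveI := hHvan (-n) (by omega)
    haveI : Subsingleton (Dual2.HDI A 𝔪 (Q.obj J) (-n) →ₗ[A] EE) :=
      ⟨fun p q => LinearMap.ext fun x => by
        rw [Subsingleton.elim x 0, map_zero, map_zero]⟩
    exact θ.toEquiv.subsingleton
  -- endomorphisms
  have hend : Function.Bijective (fun r : A => r • 𝟙 (Q.obj J)) := by
    have h := localDualityCore J a hJ hJc EE t (Q.obj J) 0
    rw [neg_zero] at h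
    obtain ⟨θ⟩ := h
    let θ1 : (Q.obj J ⟶ Q.obj J) ≃ₗ[A] (Q.obj J ⟶ (Q.obj J)⟦(0 : ℤ)⟧) :=
      Linear.homCongr A (Iso.refl _) ((shiftFunctorZero (Dual.D A) ℤ).app (Q.obj J)).symm
    let θ2 : (Dual2.HDI A 𝔪 (Q.obj J) 0 →ₗ[A] EE) ≃ₗ[A] (E →ₗ[A] E) :=
      LinearEquiv.arrowCongr eH0 (LinearEquiv.refl A E)
    let σ : A ≃ₗ[A] (E →ₗ[A] E) := LinearEquiv.ofBijective _ (bijective_toEnd_hull hf)
    let Φ : (Q.obj J ⟶ Q.obj J) ≃ₗ[A] A := (θ1.trans (θ.trans θ2)).trans σ.symm
    set u : A := Φ (𝟙 (Q.obj J)) with hu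
    have hunit : IsUnit u := by
      by_contra hnu
      have hum : u ∈ maximalIdeal A := (IsLocalRing.mem_maximalIdeal u).2 hnu
      let ψ : Q.obj J ⟶ Q.obj J := Φ.symm 1
      have h1 : 𝟙 (Q.obj J) = u • ψ := by
        apply Φ.injective
        rw [map_smul, Φ.apply_symm_apply, smul_eq_mul, mul_one]
      obtain ⟨b, hb⟩ := hgen (x₀ ≫ ψ)
      have h2 : x₀ = (u * b) • x₀ := by
        calc x₀ = x₀ ≫ 𝟙 (Q.obj J) := (Category.comp_id _).symm
          _ = x₀ ≫ (u • ψ) := by rw [← h1]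
          _ = u • (x₀ ≫ ψ) := by rw [Linear.comp_smul]
          _ = u • (b • x₀) := by rw [hb]
          _ = (u * b) • x₀ := by rw [smul_smul]
      have h3 : (1 - u * b) • x₀ = 0 := by
        rw [sub_smul, one_smul, ← h2, sub_self]
      have h4 : IsUnit (1 - u * b) := by
        by_contra h4
        have h5 : (1 - u * b) ∈ maximalIdeal A := (IsLocalRing.mem_maximalIdeal _).2 h4
        have h6 : (1 : A) ∈ maximalIdeal A := by
          have h7 := (maximalIdeal A).add_mem h5 ((maximalIdeal A).mul_mem_right b hum)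
          have h8 : 1 - u * b + u * b = 1 := by ring
          rwa [h8] at h7
        exact (Ideal.ne_top_iff_one _).1 (IsLocalRing.maximalIdeal.isMaximal A).ne_top h6
      exact hx₀ ((h4.smul_eq_zero).1 h3)
    constructor
    · intro r s hrs
      have h1 : Φ (r • 𝟙 (Q.obj J)) = Φ (s • 𝟙 (Q.obj J)) := congrArg Φ hrs
      rw [map_smul, map_smul, smul_eq_mul, smul_eq_mul] at h1
      exact hunit.mul_left_injective h1
    · intro h
      obtain ⟨v, hv⟩ := hunit.exists_right_inv
      refine ⟨Φ h * v, ?_⟩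
      apply Φ.injective
      change Φ ((Φ h * v) • 𝟙 (Q.obj J)) = Φ h
      rw [map_smul, smul_eq_mul, ← hu, mul_assoc, mul_comm v u, hv, mul_one]
  exact
    { isNoetherianRing := inferInstance
      finite_injective_dimension := hfid
      finite_cohomology := hfin
      toEnd_bijective := hend
      ext_self_subsingleton := hself }

end Groth.Agent.Lib.Helper39.GMD.DualCrit
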