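import Groth.Agent.Lib.Helper39.GMD.DualCrit5
import Groth.Agent.Lib.Helper89.PtDual3
import Groth.Agent.Lib.Helper85.HullExist
import Groth.Agent.S12537

/-!
# The dualizing criterion over a complete local ring (helper39)

Over a complete Noetherian local ring, a bounded below complex `ω` with finite cohomology such that
`Hom(k, ω[i]) = 0` for `i ≠ 0` and `Hom(k, ω)` is cyclic and nonzero is a dualizing complex.
-/

set_option autoImplicit false
universe u

namespace Groth.Agent.Lib.Helper39.GMD.DualCrit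

open CategoryTheory CategoryTheory.Limits HomologicalComplex DerivedCategory
open CategoryTheory.Pretriangulated
open InjHull IsLocalRing DRing
open Groth.Agent.Lib.Helper84 Groth.Agent.Lib.Helper89.BCHom
open Groth.Agent.Lib.Helper25.Bidual

attribute [local instance] HasDerivedCategory.standard

variable {A : Type u} [CommRing A] [IsLocalRing A] [IsNoetherianRing A]

/-- **Bass**: finite injective dimension from the vanishing of `Hom(k, ω[i])`, `i > 0` -/
theorem fid_of_normalized (ω : Dual.D A) (a : ℤ) (hGE : ω.IsGE a)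
    (hfin : ∀ i : ℤ, Module.Finite A (Dual.HD A ω i)) (hn : Dual.IsNormalized A ω) :
    ∀ (M : Type u) [AddCommGroup M] [Module A M] (i : ℤ),
      (i < a ∨ 0 < i) → Subsingleton (Dual.inD A M ⟶ ω⟦i⟧) := by
  have hNoeth : ∀ (J : Ideal A) (i : ℤ), IsNoetherian A (Dual.inD A (A ⧸ J) ⟶ ω⟦i⟧) :=
    fun J i => Groth.Agent.Lib.Helper89.PtDual.noeth_inD_shift (A ⧸ J) ω a hGE hfin i
  have hmaxP : ∀ m : Ideal A, m.IsMaximal → Groth.Agent.Lib.Helper89.Bass.P ω 0 (A ⧸ m) := by
    intro m hm i hi
    have hmm : m = maximalIdeal A := IsLocalRing.eq_maximalIdeal hm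
    subst hmm
    exact hn i (by omega)
  have hbass := Groth.Agent.Lib.Helper89.PtDual.bass' hNoeth hmaxP
  have Hcyc : ∀ (I : Ideal A) (i : ℤ), (i < a ∨ 0 < i) →
      ∀ φ : (singleFunctor (ModuleCat.{u} A) i).obj (ModuleCat.of A (A ⧸ I)) ⟶ ω, φ = 0 := by
    intro I i hi φ
    rcases hi with hi | hi
    · exact DerivedCategory.TStructure.t.zero_of_isLE_of_isGE φ i a hi inferInstance hGE
    · exact eq_zero_of_subsingleton_shift _ _ i (hbass I i hi) φ
  intro M _ _ i hi
  exact Groth.Agent.Lib.Helper89.Bass.fid_of_cyclic ω a 0 Hcyc M i hi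

variable [IsAdicComplete (maximalIdeal A) A]

/-- **the criterion over a complete local ring** (normalized form) -/
theorem isDualizing_of_normalized_complete (ω : Dual.D A) (a : ℤ) (hGE : ω.IsGE a)
    (hfin : ∀ i : ℤ, Module.Finite A (Dual.HD A ω i)) (hn : Dual.IsNormalized A ω)
    (x₀ : Dual.inD A (ResidueField A) ⟶ ω) (hx₀ : x₀ ≠ 0)
    (hgen : ∀ y : Dual.inD A (ResidueField A) ⟶ ω, ∃ b : A, y = b • x₀) :
    Dual.IsDualizing A ω := by
  obtain ⟨E, _, _, f, hf⟩ :=
    Groth.Agent.Lib.Helper85.Hull.exists_injectiveHull (R := A) (ResidueField A)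
  have hfid := fid_of_normalized ω a hGE hfin hn
  -- a bounded injective model
  obtain ⟨J, hJ, hJz, ⟨eJ⟩⟩ := (Groth.Agent.S12537.result (ModuleCat.{u} A) ω a (max a 0)
    (le_max_left a 0)).1 (fun F i hi φ => by
      haveI : Subsingleton (Dual.inD A F ⟶ ω⟦i⟧) := hfid F i (by
        rcases hi with hi | hi
        · exact Or.inl hi
        · exact Or.inr (lt_of_le_of_lt (le_max_right a 0) hi))
      exact Subsingleton.elim (α := Dual.inD A F ⟶ ω⟦i⟧) φ 0)
  haveI : J.IsStrictlyGE a := by
    rw [CochainComplex.isStrictlyGE_iff]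
    intro q hq
    exact hJz q (Or.inl hq)
  haveI : J.IsKInjective := CochainComplex.isKInjective_of_injective J a
  -- transport the hypotheses
  have hfin' : ∀ i : ℤ, Module.Finite A (Dual.HD A (Q.obj J) i) := fun i => by
    haveI := hfin i
    exact Module.Finite.equiv
      ((DerivedCategory.homologyFunctor (ModuleCat.{u} A) i).mapIso eJ.symm).toLinearEquiv
  have hfid' : ∃ a b : ℤ, ∀ (M : Type u) [AddCommGroup M] [Module A M] (i : ℤ),
      (i < a ∨ b < i) → Subsingleton (Dual.inD A M ⟶ (Q.obj J)⟦i⟧) :=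
    ⟨a, 0, fun M _ _ i hi => by
      haveI := hfid M i hi
      exact (Iso.homCongr (Iso.refl (Dual.inD A M))
        ((shiftFunctor (Dual.D A) i).mapIso eJ)).subsingleton⟩
  have hn' : Dual.IsNormalized A (Q.obj J) := fun i hi => by
    haveI := hn i hi
    exact (Iso.homCongr (Iso.refl (Dual.inD A (ResidueField A)))
      ((shiftFunctor (Dual.D A) i).mapIso eJ)).subsingleton
  have hx₀' : x₀ ≫ eJ.inv ≠ 0 := by
    intro h
    apply hx₀
    rw [← cancel_mono eJ.inv, h, zero_comp]
  have hgen' : ∀ y : Dual.inD A (ResidueField A) ⟶ Q.obj J, ∃ b : A, y = b • (x₀ ≫ eJ.inv) := by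
    intro y
    obtain ⟨b, hb⟩ := hgen (y ≫ eJ.hom)
    refine ⟨b, ?_⟩
    rw [← Linear.smul_comp, ← hb, Category.assoc, eJ.hom_inv_id, Category.comp_id]
  exact isDualizing_of_iso eJ
    (isDualizing_Q_of_model hf J a hJ hfin' hfid' hn' (x₀ ≫ eJ.inv) hx₀' hgen')

end Groth.Agent.Lib.Helper39.GMD.DualCrit
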