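import Groth.Agent.Lib.Helper39.GMD.DualCrit6
import Groth.Agent.Lib.Helper25.LocDual.DualShift

/-!
# The dualizing criterion over a complete local ring, arbitrary degree (helper39)
-/

set_option autoImplicit false
universe u

namespace Groth.Agent.Lib.Helper39.GMD.DualCrit

open CategoryTheory CategoryTheory.Limits HomologicalComplex DerivedCategory
open CategoryTheory.Pretriangulated
open InjHull IsLocalRing DRing
open Groth.Agent.Lib.Helper25.Bidual Groth.Agent.Lib.Helper25.LocDual

attribute [local instance] HasDerivedCategory.standard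

variable {A : Type u} [CommRing A] [IsLocalRing A] [IsNoetherianRing A]
  [IsAdicComplete (maximalIdeal A) A]

/-- **the criterion over a complete local ring** -/
theorem isDualizing_of_ext_residue_complete (R : Dual.D A) (a : ℤ) (hGE : R.IsGE a)
    (hfin : ∀ i : ℤ, Module.Finite A (Dual.HD A R i)) (d : ℤ)
    (hvan : ∀ i : ℤ, i ≠ d → Subsingleton (Dual.inD A (ResidueField A) ⟶ R⟦i⟧))
    (x₀ : Dual.inD A (ResidueField A) ⟶ R⟦d⟧) (hx₀ : x₀ ≠ 0)
    (hgen : ∀ y : Dual.inD A (ResidueField A) ⟶ R⟦d⟧, ∃ b : A, y = b • x₀) :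
    Dual.IsDualizing A R := by
  have hGE' : (R⟦d⟧).IsGE (a - d) :=
    DerivedCategory.TStructure.t.isGE_shift R a d (a - d) (by lia)
  have hfin' : ∀ i : ℤ, Module.Finite A (Dual.HD A (R⟦d⟧) i) := by
    intro i
    have e : (homologyFunctor (ModuleCat.{u} A) i).obj (R⟦d⟧) ≅
        (homologyFunctor (ModuleCat.{u} A) (d + i)).obj R :=
      ((homologyFunctor (ModuleCat.{u} A) 0).shiftIso d i (d + i) rfl).app R
    have := hfin (d + i)
    exact Module.Finite.equiv e.symm.toLinearEquiv
  have hn : Dual.IsNormalized A (R⟦d⟧) := by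
    intro i hi
    have e : (R⟦d⟧)⟦i⟧ ≅ R⟦d + i⟧ := ((shiftFunctorAdd' (Dual.D A) d i (d + i) rfl).app R).symm
    exact (subsingleton_hom_congr_right e).2 (hvan (d + i) (by omega))
  have h1 := isDualizing_of_normalized_complete (R⟦d⟧) (a - d) hGE' hfin' hn x₀ hx₀ hgen
  have h2 := isDualizing_shift (R⟦d⟧) h1 (-d)
  exact isDualizing_of_iso (shiftShiftNeg R d) h2

end Groth.Agent.Lib.Helper39.GMD.DualCrit
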