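import Groth.Agent.Lib.Helper39.GMD.DualCrit7
import Groth.Agent.Lib.Helper89.BCHom5
import Groth.Agent.S0543

/-!
# The dualizing criterion `RHom(k, R) = k[-d]` over a Noetherian local ring (helper39)

Transfer of the hypotheses along a flat local homomorphism `A → B` with `m_A B = m_B`, and descent
of the conclusion from the completion.
-/

set_option autoImplicit false
set_option linter.style.haveILetI false
universe u

namespace Groth.Agent.Lib.Helper39.GMD.DualCrit

open CategoryTheory CategoryTheory.Limits HomologicalComplex DerivedCategory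
open CategoryTheory.Pretriangulated TensorProduct
open InjHull IsLocalRing DRing
open Groth.Agent.Lib.Helper84 Groth.Agent.Lib.Helper89.BCHom Groth.Agent.Lib.Helper89.Bass
open Groth.Agent.Lib.Helper85.Matlis

attribute [local instance] HasDerivedCategory.standard

section Transfer

variable {A B : Type u} [CommRing A] [CommRing B] [IsLocalRing A] [IsLocalRing B]
  [IsNoetherianRing A] (f : A →+* B) [PreservesFiniteLimits (FlatBC.ext f)]

/-- the residue field of `B` as the base change of the residue field of `A` -/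
noncomputable def residueBcIso (hm : (maximalIdeal A).map f = maximalIdeal B) :
    Dual.inD B (ResidueField B) ≅
      (FlatBC.bc f).obj (Dual.inD A (A ⧸ maximalIdeal A)) :=
  letI := f.toAlgebra
  (singleFunctor (ModuleCat.{u} B) 0).mapIso
      ((residueEquiv B).symm ≪≫ₗ (Submodule.quotEquivOfEq _ _ hm).symm).toModuleIso ≪≫
    (singleFunctor (ModuleCat.{u} B) 0).mapIso
      (Algebra.TensorProduct.quotIdealMapEquivTensorQuotAux B (maximalIdeal A)).toModuleIso ≪≫
    (FlatBC.bcSingle f (ModuleCat.of A (A ⧸ maximalIdeal A)) 0).symm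

theorem transfer_vanishing (hf : f.Flat) (hm : (maximalIdeal A).map f = maximalIdeal B)
    (R : Dual.D A) (a : ℤ) (hGE : R.IsGE a) (i : ℤ)
    (h : Subsingleton (Dual.inD A (ResidueField A) ⟶ R⟦i⟧)) :
    Subsingleton (Dual.inD B (ResidueField B) ⟶ ((FlatBC.bc f).obj R)⟦i⟧) := by
  let eA : Dual.inD A (A ⧸ maximalIdeal A) ≅ Dual.inD A (ResidueField A) :=
    (singleFunctor (ModuleCat.{u} A) 0).mapIso (residueEquiv A).toModuleIso
  have h1 : Subsingleton (Dual.inD A (A ⧸ maximalIdeal A) ⟶ R⟦i⟧) :=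
    @Equiv.subsingleton _ _ (eA.homCongr (Iso.refl _)) h
  have h2 := subsingleton_inD_bc f hf R a hGE (maximalIdeal A) i h1
  let eB : Dual.inD B (ResidueField B) ≅ Dual.inD B (B ⧸ (maximalIdeal A).map f) :=
    (singleFunctor (ModuleCat.{u} B) 0).mapIso
      ((residueEquiv B).symm ≪≫ₗ (Submodule.quotEquivOfEq _ _ hm).symm).toModuleIso
  exact @Equiv.subsingleton _ _ (eB.homCongr (Iso.refl _)) h2

theorem transfer_generator (hf : f.Flat) (hm : (maximalIdeal A).map f = maximalIdeal B)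
    (hnt : letI := f.toAlgebra; ∀ (H : Type (u + 1)) [AddCommGroup H] [Module A H]
      [Nontrivial H], Nontrivial (B ⊗[A] H))
    (R : Dual.D A) (a : ℤ) (hGE : R.IsGE a) (d : ℤ)
    (hd : Nonempty ((Dual.inD A (ResidueField A) ⟶ R⟦d⟧) ≃ₗ[A] ResidueField A)) :
    ∃ x₀ : Dual.inD B (ResidueField B) ⟶ ((FlatBC.bc f).obj R)⟦d⟧, x₀ ≠ 0 ∧
      ∀ y : Dual.inD B (ResidueField B) ⟶ ((FlatBC.bc f).obj R)⟦d⟧, ∃ b : B, y = b • x₀ := by
  letI := f.toAlgebra
  haveI : Module.Flat A B := hf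
  obtain ⟨e⟩ := hd
  let M : Dual.D A := Dual.inD A (A ⧸ maximalIdeal A)
  let N : Dual.D A := R⟦d⟧
  let eA : M ≅ Dual.inD A (ResidueField A) :=
    (singleFunctor (ModuleCat.{u} A) 0).mapIso (residueEquiv A).toModuleIso
  let e' : (M ⟶ N) ≃ₗ[A] ResidueField A := (Linear.homCongr A eA.symm (Iso.refl N)).trans e
  let xA : M ⟶ N := e'.symm 1
  have hxA : xA ≠ 0 := by
    intro h
    have h1 : e' xA = 0 := by rw [h, map_zero]
    rw [LinearEquiv.apply_symm_apply] at h1
    exact one_ne_zero h1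
  have hgenA : ∀ y : M ⟶ N, ∃ c : A, y = c • xA := by
    intro y
    obtain ⟨c, hc⟩ := residue_eq_smul_one (e' y)
    refine ⟨c, ?_⟩
    apply e'.injective
    rw [map_smul, LinearEquiv.apply_symm_apply, hc]
  have hGEs : N.IsGE (a - d) :=
    DerivedCategory.TStructure.t.isGE_shift R a d (a - d) (by lia)
  obtain ⟨hi, hs⟩ := bij_of_bddFin f hf M N (bddFin_inD (A ⧸ maximalIdeal A)) (a - d) hGEs
  have hΘi : Function.Injective (Θ B M N) := hi
  have hΘs : Function.Surjective (Θ B M N) := hs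
  -- every tensor is a multiple of `1 ⊗ xA`
  have hten : ∀ s : B ⊗[A] (M ⟶ N), ∃ b : B, s = b ⊗ₜ[A] xA := by
    intro s
    induction s using TensorProduct.induction_on with
    | zero => exact ⟨0, (TensorProduct.zero_tmul _ _).symm⟩
    | tmul b y =>
      obtain ⟨c, rfl⟩ := hgenA y
      exact ⟨c • b, by rw [TensorProduct.smul_tmul]⟩
    | add s s' hs hs' =>
      obtain ⟨b, rfl⟩ := hs
      obtain ⟨b', rfl⟩ := hs'
      exact ⟨b + b', (TensorProduct.add_tmul _ _ _).symm⟩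
  let y₀ : (FlatBC.bc f).obj M ⟶ (FlatBC.bc f).obj N := (FlatBC.bc f).map xA
  have hy₀gen : ∀ z : (FlatBC.bc f).obj M ⟶ (FlatBC.bc f).obj N, ∃ b : B, z = b • y₀ := by
    intro z
    obtain ⟨s, rfl⟩ := hΘs z
    obtain ⟨b, rfl⟩ := hten s
    exact ⟨b, Θ_tmul (B := B) M N b xA⟩
  have hy₀ : y₀ ≠ 0 := by
    intro h0
    haveI : Nontrivial (M ⟶ N) := ⟨⟨xA, 0, hxA⟩⟩
    haveI : Nontrivial (B ⊗[A] (M ⟶ N)) := hnt (M ⟶ N)
    obtain ⟨s, s', hss⟩ := exists_pair_ne (B ⊗[A] (M ⟶ N))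
    apply hss
    apply hΘi
    obtain ⟨b, rfl⟩ := hten s
    obtain ⟨b', rfl⟩ := hten s'
    rw [Θ_tmul, Θ_tmul]
    change b • y₀ = b' • y₀
    rw [h0, smul_zero, smul_zero]
  -- transport
  let iso1 : Dual.inD B (ResidueField B) ≅ (FlatBC.bc f).obj M := residueBcIso f hm
  let iso2 : (FlatBC.bc f).obj N ≅ ((FlatBC.bc f).obj R)⟦d⟧ :=
    ((FlatBC.bc f).commShiftIso d).app R
  refine ⟨iso1.hom ≫ y₀ ≫ iso2.hom, ?_, ?_⟩
  · intro h0
    apply hy₀
    have h1 : iso1.inv ≫ (iso1.hom ≫ y₀ ≫ iso2.hom) ≫ iso2.inv = 0 := by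
      rw [h0, zero_comp, comp_zero]
    simpa using h1
  · intro y
    obtain ⟨b, hb⟩ := hy₀gen (iso1.inv ≫ y ≫ iso2.inv)
    refine ⟨b, ?_⟩
    have h1 : y = iso1.hom ≫ (iso1.inv ≫ y ≫ iso2.inv) ≫ iso2.hom := by simp
    rw [h1, hb, Linear.smul_comp, Linear.comp_smul]

end Transfer

end Groth.Agent.Lib.Helper39.GMD.DualCrit
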