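import Groth.Agent.Lib.Helper39.GMD.DualCrit8

/-!
# The dualizing criterion `RHom(k, R) = k[-d]` over a Noetherian local ring: descent (helper39)
-/

set_option autoImplicit false
set_option linter.style.haveILetI false
universe u

namespace Groth.Agent.Lib.Helper39.GMD.DualCrit

open CategoryTheory CategoryTheory.Limits HomologicalComplex DerivedCategory
open CategoryTheory.Pretriangulated TensorProduct
open InjHull IsLocalRing DRing
open Groth.Agent.Lib.Helper84 Groth.Agent.Lib.Helper89.BCHom Groth.Agent.Lib.Helper89.Bass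

attribute [local instance] HasDerivedCategory.standard

section Descent

variable {A B : Type u} [CommRing A] [CommRing B] [IsNoetherianRing A] [IsNoetherianRing B]
  (f : A →+* B) [PreservesFiniteLimits (FlatBC.ext f)]

/-- descent of dualizing complexes along a faithfully flat ring map -/
theorem isDualizing_of_bc_faithfullyFlat (hf : f.Flat)
    (hff : @Module.FaithfullyFlat A B _ _ f.toAlgebra.toModule) (K : Dual.D A)
    (hK : Dual.IsDualizing B ((FlatBC.bc f).obj K)) : Dual.IsDualizing A K := by
  refine isDualizing_of_bc_family (ι := Unit) (B := fun _ => B) (φ := fun _ => f) (fun _ => hf)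
    ?_ ?_ ?_ K (fun _ => hK)
  · intro H _ _ h
    letI := f.toAlgebra
    haveI := hff
    haveI : Subsingleton (B ⊗[A] H) := h ()
    exact Module.FaithfullyFlat.lTensor_reflects_triviality A B H
  · intro H _ _ h
    letI := f.toAlgebra
    haveI := hff
    haveI : Subsingleton (B ⊗[A] H) := h ()
    exact Module.FaithfullyFlat.lTensor_reflects_triviality A B H
  · intro H _ _ h
    letI := f.toAlgebra
    haveI := hff
    haveI : Module.Finite B (B ⊗[A] H) := h ()
    haveI : IsNoetherian B (B ⊗[A] H) := isNoetherian_of_isNoetherianRing_of_finite B _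
    haveI : IsNoetherian A H :=
      Submodule.IsNoetherian.of_isNoetherian_tensorProduct_of_faithfullyFlat (A := B) inferInstance
    infer_instance

end Descent

variable {A : Type u} [CommRing A] [IsLocalRing A] [IsNoetherianRing A]

/-- **the criterion**: over a Noetherian local ring, `R ∈ D^+_{fg}(A)` with `Ext^i(k, R) = 0` for
`i ≠ d` and `Ext^d(k, R) ≅ k` is a dualizing complex. -/
theorem isDualizing_of_ext_residue (R : Dual.D A)
    (hfin : ∀ i : ℤ, Module.Finite A (Dual.HD A R i))
    (hbdd : ∃ a : ℤ, ∀ i : ℤ, i < a → Subsingleton (Dual.HD A R i)) (d : ℤ)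
    (hvan : ∀ i : ℤ, i ≠ d → Subsingleton (Dual.inD A (ResidueField A) ⟶ R⟦i⟧))
    (hd : Nonempty ((Dual.inD A (ResidueField A) ⟶ R⟦d⟧) ≃ₗ[A] ResidueField A)) :
    Dual.IsDualizing A R := by
  obtain ⟨a, ha⟩ := hbdd
  have hGE : R.IsGE a := by
    rw [DerivedCategory.isGE_iff]
    intro i hi
    haveI := ha i hi
    exact ModuleCat.isZero_of_subsingleton _
  let B := AdicCompletion (maximalIdeal A) A
  haveI : IsNoetherianRing B := Groth.Agent.S0543.result A (maximalIdeal A)
  let f : A →+* B := algebraMap A B
  haveI : Module.Flat A B := AdicCompletion.flat_of_isNoetherian (maximalIdeal A)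
  have hf : f.Flat := RingHom.flat_algebraMap_iff.2 inferInstance
  haveI : PreservesFiniteLimits (FlatBC.ext f) := FlatBC.preservesFiniteLimits_ext f hf
  have hm : (maximalIdeal A).map f = maximalIdeal B :=
    (AdicCompletion.maximalIdeal_eq_map (R := A)).symm
  haveI : Module.FaithfullyFlat A B := Module.FaithfullyFlat.of_flat_of_isLocalHom
  have halg : f.toAlgebra = (inferInstance : Algebra A B) :=
    Algebra.algebra_ext _ _ (fun _ => rfl)
  have hff : @Module.FaithfullyFlat A B _ _ f.toAlgebra.toModule := by
    rw [halg]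
    infer_instance
  have hnt : letI := f.toAlgebra; ∀ (H : Type (u + 1)) [AddCommGroup H] [Module A H]
      [Nontrivial H], Nontrivial (B ⊗[A] H) := by
    letI := f.toAlgebra
    haveI := hff
    intro H _ _ _
    infer_instance
  -- the hypotheses over `B`
  have hvanB : ∀ i : ℤ, i ≠ d →
      Subsingleton (Dual.inD B (ResidueField B) ⟶ ((FlatBC.bc f).obj R)⟦i⟧) :=
    fun i hi => transfer_vanishing f hf hm R a hGE i (hvan i hi)
  obtain ⟨x₀, hx₀, hgen⟩ := transfer_generator f hf hm hnt R a hGE d hd
  have hfinB : ∀ i : ℤ, Module.Finite B (Dual.HD B ((FlatBC.bc f).obj R) i) := fun i =>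
    Groth.Agent.Lib.Helper25.TrivDual.finite_homology_bc f R i (hfin i)
  haveI := hGE
  have hGEB : ((FlatBC.bc f).obj R).IsGE a := FlatBC.isGE_bc f R a
  have hB : Dual.IsDualizing B ((FlatBC.bc f).obj R) :=
    isDualizing_of_ext_residue_complete ((FlatBC.bc f).obj R) a hGEB hfinB d hvanB x₀ hx₀ hgen
  exact isDualizing_of_bc_faithfullyFlat f hf hff R hB

end Groth.Agent.Lib.Helper39.GMD.DualCrit
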