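import Groth.Agent.Lib.Helper39.Dual.LocExt
import Groth.Agent.Lib.Helper39.Dual.DepthExt
import Groth.Agent.Lib.Helper39.Dual.Basic
import Groth.Agent.Lib.Helper39.Dual.Catenary
import Groth.Agent.Lib.Helper56.DepthLoc
import Groth.Agent.Lib.Helper25.LocDual.DimFunLocal

/-!
# An element outside `p` killing `Ext^i(M, ω)` in high degrees (helper39)

For a Noetherian local ring `A` with normalized dualizing complex `ω`, a finite module `M` and a
prime `p` with `depth(M_p) + dim(A/p) > c`, there is `f ∉ p` killing `Ext^i(M, ω)` for `i ≥ -c`.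
-/

set_option autoImplicit false
universe u

namespace Groth.Agent.Lib.Helper39.GMD.ExtLoc

open CategoryTheory CategoryTheory.Limits DerivedCategory
open Groth.Agent.Lib.Helper25.LocDual Groth.Agent.Lib.Helper39.Dual

attribute [local instance] HasDerivedCategory.standard

/-- a finite module vanishing at `p` is killed by some `f ∉ p` -/
theorem exists_notMem_smul_eq_zero {A : Type u} [CommRing A] {N : Type*} [AddCommGroup N]
    [Module A N] [Module.Finite A N] (p : PrimeSpectrum A)
    (h : LocZero p.asIdeal.primeCompl N) : ∃ f : A, f ∉ p.asIdeal ∧ ∀ x : N, f • x = 0 := by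
  have h1 : Subsingleton (LocalizedModule p.asIdeal.primeCompl N) :=
    (locZero_iff_subsingleton _ _).1 h
  have h2 : p ∉ Module.support A N := Module.notMem_support_iff.2 h1
  rw [Module.mem_support_iff_of_finite] at h2
  obtain ⟨f, hf, hfp⟩ := SetLike.not_le_iff_exists.1 h2
  exact ⟨f, hfp, fun x => Module.mem_annihilator.1 hf x⟩

variable {A : Type u} [CommRing A] [IsLocalRing A] [IsNoetherianRing A]
  (ω : Dual.D A) (hω : Dual.IsDualizing A ω) (hn : Dual.IsNormalized A ω)

include hω hn in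
/-- vanishing of the localization of `Ext^i(M, ω)` at `p` from the depth of `M_p` -/
theorem locZero_ext_of_depth (M : Type u) [AddCommGroup M] [Module A M] [Module.Finite A M]
    (p : PrimeSpectrum A) (e : ℕ) (he : Order.coheight p = (e : ℕ∞)) (k : ℕ)
    (hk : (k : ℕ∞) ≤ LocCoh.depth (Localization.AtPrime p.asIdeal)
      (LocalizedModule p.asIdeal.primeCompl M)) (i : ℤ) (hi : -(k : ℤ) < i + e) :
    LocZero p.asIdeal.primeCompl (Dual.inD A M ⟶ ω⟦i⟧) := by
  obtain ⟨hB, ω', hω', hn', hiff⟩ := exists_local_model ω hω hn p e he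
  haveI := hB
  rw [hiff (ModuleCat.of A M) i]
  let M' : Type u := (ModuleCat.extendScalars.{u, u, u}
    (algebraMap A (Localization.AtPrime p.asIdeal))).obj (ModuleCat.of A M)
  haveI : Module.Finite (Localization.AtPrime p.asIdeal) M' :=
    finite_extendScalars (algebraMap A (Localization.AtPrime p.asIdeal)) M
  obtain ⟨eq⟩ := nonempty_extendScalars_equiv_localizedModule p.asIdeal M
  have hk' : (k : ℕ∞) ≤ LocCoh.depth (Localization.AtPrime p.asIdeal) M' := by
    rw [Groth.Agent.Lib.Helper56.depth_congr eq]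
    exact hk
  exact vanProp ω' hω' hn' (i + e) M' k hk' hi

include hω in
/-- a single element outside `p` killing all `Ext^i(M, ω)`, `i ≥ c`, when these vanish at `p` -/
theorem exists_elt_kill_ext (M : Type u) [AddCommGroup M] [Module A M] [Module.Finite A M]
    (p : PrimeSpectrum A) (c : ℤ)
    (hloc : ∀ i : ℤ, c ≤ i → LocZero p.asIdeal.primeCompl (Dual.inD A M ⟶ ω⟦i⟧)) :
    ∃ f : A, f ∉ p.asIdeal ∧ ∀ i : ℤ, c ≤ i → ∀ x : (Dual.inD A M ⟶ ω⟦i⟧), f • x = 0 := by
  obtain ⟨a', b', hab'⟩ := hω.finite_injective_dimension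
  have hex : ∀ i : ℤ, ∃ f : A, f ∉ p.asIdeal ∧
      (c ≤ i → ∀ x : (Dual.inD A M ⟶ ω⟦i⟧), f • x = 0) := fun i => by
    by_cases hi : c ≤ i
    · haveI := finite_hom ω hω M i
      obtain ⟨f, hf, hf0⟩ := exists_notMem_smul_eq_zero p (hloc i hi)
      exact ⟨f, hf, fun _ => hf0⟩
    · exact ⟨1, fun h => p.isPrime.ne_top ((Ideal.eq_top_iff_one _).2 h), fun h => absurd h hi⟩
  choose F hF1 hF2 using hex
  refine ⟨∏ i ∈ Finset.Icc c b', F i, ?_, fun i hi x => ?_⟩
  · intro hmem
    obtain ⟨i, -, hi⟩ := (Ideal.IsPrime.prod_mem_iff (hp := p.isPrime)).1 hmem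
    exact hF1 i hi
  · by_cases hib : i ≤ b'
    · have hmem : i ∈ Finset.Icc c b' := Finset.mem_Icc.2 ⟨hi, hib⟩
      rw [← Finset.mul_prod_erase _ _ hmem, mul_comm, mul_smul, hF2 i hi x, smul_zero]
    · haveI := hab' M i (Or.inr (by omega))
      exact Subsingleton.elim _ _

include hω hn in
/-- the element `f ∉ p` from the depth condition -/
theorem exists_elt_of_depth (M : Type u) [AddCommGroup M] [Module A M] [Module.Finite A M]
    (p : PrimeSpectrum A) (c : ℕ)
    (h3 : ((c : ℕ∞) : WithBot ℕ∞) <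
      ((LocCoh.depth (Localization.AtPrime p.asIdeal)
        (LocalizedModule p.asIdeal.primeCompl M) : ℕ∞) : WithBot ℕ∞) +
        ringKrullDim (A ⧸ p.asIdeal)) :
    ∃ f : A, f ∉ p.asIdeal ∧ ∀ i : ℤ, -(c : ℤ) ≤ i →
      ∀ x : (Dual.inD A M ⟶ ω⟦i⟧), f • x = 0 := by
  obtain ⟨e, he⟩ := ENat.ne_top_iff_exists.1 (coheight_ne_top p)
  rw [ringKrullDim_quotient_eq_coheight p, ← he] at h3
  refine exists_elt_kill_ext ω hω M p (-(c : ℤ)) (fun i hi => ?_)
  have h3' : (c : ℕ∞) < LocCoh.depth (Localization.AtPrime p.asIdeal)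
      (LocalizedModule p.asIdeal.primeCompl M) + (e : ℕ∞) := by
    exact_mod_cast h3
  refine locZero_ext_of_depth ω hω hn M p e he.symm (c + 1 - e) ?_ i ?_
  · generalize LocCoh.depth (Localization.AtPrime p.asIdeal)
      (LocalizedModule p.asIdeal.primeCompl M) = D at h3'
    induction D using ENat.recTopCoe with
    | top => exact le_top
    | coe n =>
      have h4 : c < n + e := by exact_mod_cast h3'
      exact_mod_cast (by omega : c + 1 - e ≤ n)
  · push_cast
    omega

end Groth.Agent.Lib.Helper39.GMD.ExtLoc
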