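import Mathlib
import Groth.Prelude.Def_DRing4

/-!
# `Hom(I, J)` is flat for injective modules `I`, `J` over a Noetherian ring (helper39)

and the terms of `Hom•(I, J)` are flat for termwise injective complexes.
-/

set_option autoImplicit false
universe u

namespace Groth.Agent.Lib.Helper39.GMD.HomInjFlat

open CategoryTheory CochainComplex.HomComplex

variable {A : Type u} [CommRing A]

/-- solutions of a linear system in an injective module -/
theorem exists_smul_eq (I : Type u) [AddCommGroup I] [Module A I] [Module.Injective A I]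
    {l : ℕ} (f : Fin l → A) (x : Fin l → I)
    (hx : ∀ c : Fin l → A, ∑ i, c i * f i = 0 → ∑ i, c i • x i = 0) :
    ∃ e : I, ∀ i, x i = f i • e := by
  classical
  let fL : (Fin l → A) →ₗ[A] A := Fintype.linearCombination A f
  let Θ : (Fin l → A) →ₗ[A] I := Fintype.linearCombination A x
  have hle : LinearMap.ker fL ≤ LinearMap.ker Θ := by
    intro c hc
    rw [LinearMap.mem_ker] at hc ⊢
    rw [Fintype.linearCombination_apply] at hc ⊢
    exact hx c (by simpa [smul_eq_mul] using hc)
  let θ : LinearMap.range fL →ₗ[A] I :=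
    (Submodule.liftQ (LinearMap.ker fL) Θ hle) ∘ₗ fL.quotKerEquivRange.symm.toLinearMap
  obtain ⟨θ', hθ'⟩ := Module.Injective.extension_property A I _ _ (LinearMap.range fL).subtype
    (Submodule.subtype_injective _) θ
  refine ⟨θ' 1, fun i => ?_⟩
  have h1 : fL (Pi.single i 1) = f i := by
    rw [Fintype.linearCombination_apply_single, one_smul]
  have h2 : f i • θ' 1 = θ ⟨fL (Pi.single i 1), LinearMap.mem_range_self fL _⟩ := by
    rw [← map_smul, smul_eq_mul, mul_one, ← hθ']
    change θ' (f i) = θ' (fL (Pi.single i 1))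
    rw [h1]
  rw [h2]
  change x i = (Submodule.liftQ (LinearMap.ker fL) Θ hle)
    (fL.quotKerEquivRange.symm ⟨fL (Pi.single i 1), LinearMap.mem_range_self fL _⟩)
  rw [LinearMap.quotKerEquivRange_symm_apply_image, Submodule.mkQ_apply, Submodule.liftQ_apply,
    Fintype.linearCombination_apply_single, one_smul]

variable [IsNoetherianRing A]

/-- the equational criterion, uniformly in the injective modules `I`, `J` -/
theorem exists_trivial {l : ℕ} (f : Fin l → A) :
    ∃ (m : ℕ) (a : Fin l → Fin m → A), (∀ j, ∑ i, f i * a i j = 0) ∧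
      ∀ (I J : Type u) [AddCommGroup I] [Module A I] [AddCommGroup J] [Module A J]
        [Module.Injective A I] [Module.Injective A J] (φ : Fin l → (I →ₗ[A] J)),
        ∑ i, f i • φ i = 0 → ∃ ψ : Fin m → (I →ₗ[A] J), ∀ i, φ i = ∑ j, a i j • ψ j := by
  classical
  let fL : (Fin l → A) →ₗ[A] A := Fintype.linearCombination A f
  have hfg : (LinearMap.ker fL).FG := IsNoetherian.noetherian _
  obtain ⟨s, hs⟩ := hfg
  let m : ℕ := s.card
  let g : Fin m → (Fin l → A) := fun j => ((s.equivFin.symm j : s) : Fin l → A)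
  have hg_mem : ∀ j, g j ∈ LinearMap.ker fL := fun j => by
    rw [← hs]
    exact Submodule.subset_span (s.equivFin.symm j).2
  have hspan : Submodule.span A (Set.range g) = LinearMap.ker fL := by
    rw [← hs]
    congr 1
    ext c
    constructor
    · rintro ⟨j, rfl⟩
      exact (s.equivFin.symm j).2
    · intro hc
      exact ⟨s.equivFin ⟨c, hc⟩, by simp [g]⟩
  refine ⟨m, fun i j => g j i, fun j => ?_, ?_⟩
  · have := hg_mem j
    rw [LinearMap.mem_ker, Fintype.linearCombination_apply] at this
    simpa [smul_eq_mul, mul_comm] using this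
  intro I J _ _ _ _ _ _ φ hφ
  let aT : (Fin l → I) →ₗ[A] (Fin m → I) :=
    LinearMap.pi (fun j => ∑ i, g j i • LinearMap.proj i)
  have haT : ∀ (x : Fin l → I) (j : Fin m), aT x j = ∑ i, g j i • x i := fun x j => by
    simp [aT]
  let Φ : (Fin l → I) →ₗ[A] J := ∑ i, (φ i) ∘ₗ LinearMap.proj i
  have hΦ : ∀ x : Fin l → I, Φ x = ∑ i, φ i (x i) := fun x => by simp [Φ]
  have hle : LinearMap.ker aT ≤ LinearMap.ker Φ := by
    intro x hxk
    rw [LinearMap.mem_ker] at hxk ⊢
    have hx : ∀ c : Fin l → A, ∑ i, c i * f i = 0 → ∑ i, c i • x i = 0 := by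
      intro c hc
      have hcK : c ∈ LinearMap.ker fL := by
        rw [LinearMap.mem_ker, Fintype.linearCombination_apply]
        simpa [smul_eq_mul] using hc
      rw [← hspan] at hcK
      have hΘ : Submodule.span A (Set.range g) ≤
          LinearMap.ker (Fintype.linearCombination A x) := by
        rw [Submodule.span_le]
        rintro _ ⟨j, rfl⟩
        rw [SetLike.mem_coe, LinearMap.mem_ker, Fintype.linearCombination_apply, ← haT x j, hxk]
        rfl
      have := hΘ hcK
      rw [LinearMap.mem_ker, Fintype.linearCombination_apply] at this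
      exact this
    obtain ⟨e, he⟩ := exists_smul_eq I f x hx
    rw [hΦ]
    have : ∑ i, φ i (x i) = (∑ i, f i • φ i) e := by
      rw [LinearMap.sum_apply]
      refine Finset.sum_congr rfl (fun i _ => ?_)
      rw [he i, map_smul, LinearMap.smul_apply]
    rw [this, hφ, LinearMap.zero_apply]
  let h : LinearMap.range aT →ₗ[A] J :=
    (Submodule.liftQ (LinearMap.ker aT) Φ hle) ∘ₗ aT.quotKerEquivRange.symm.toLinearMap
  obtain ⟨Ψ, hΨ⟩ := Module.Injective.extension_property A J _ _ (LinearMap.range aT).subtype
    (Submodule.subtype_injective _) h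
  have hΨ' : ∀ x : Fin l → I, Ψ (aT x) = Φ x := fun x => by
    have h1 : Ψ (aT x) = h ⟨aT x, LinearMap.mem_range_self aT x⟩ := by
      rw [← hΨ]
      rfl
    rw [h1]
    change (Submodule.liftQ (LinearMap.ker aT) Φ hle)
      (aT.quotKerEquivRange.symm ⟨aT x, LinearMap.mem_range_self aT x⟩) = Φ x
    rw [LinearMap.quotKerEquivRange_symm_apply_image, Submodule.mkQ_apply, Submodule.liftQ_apply]
  refine ⟨fun j => Ψ ∘ₗ LinearMap.single A (fun _ => I) j, fun i => ?_⟩
  apply LinearMap.ext
  intro e
  have h1 : φ i e = Φ (Pi.single i e) := by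
    rw [hΦ, Finset.sum_eq_single i]
    · rw [Pi.single_eq_same]
    · intro i' _ hi'
      rw [Pi.single_eq_of_ne hi', map_zero]
    · intro hi
      exact absurd (Finset.mem_univ i) hi
  have h2 : aT (Pi.single i e) = ∑ j, Pi.single j (g j i • e) := by
    funext j
    rw [haT, Finset.sum_apply, Finset.sum_eq_single i, Pi.single_eq_same,
      Finset.sum_eq_single j, Pi.single_eq_same]
    · intro j' _ hj'
      rw [Pi.single_eq_of_ne' hj']
    · intro hj
      exact absurd (Finset.mem_univ j) hj
    · intro i' _ hi'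
      rw [Pi.single_eq_of_ne hi', smul_zero]
    · intro hi
      exact absurd (Finset.mem_univ i) hi
  rw [h1, ← hΨ', h2, map_sum, LinearMap.sum_apply]
  refine Finset.sum_congr rfl (fun j _ => ?_)
  rw [LinearMap.smul_apply, LinearMap.comp_apply, LinearMap.single_apply, ← map_smul,
    ← Pi.single_smul]

/-- the terms of `Hom•(I, J)` are flat for termwise injective complexes -/
theorem flat_homCx_X (I J : DRing.Cx A) (hI : DRing.TermwiseInjective I)
    (hJ : DRing.TermwiseInjective J) (n : ℤ) : Module.Flat A ((DRing.homCx I J).X n) := by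
  rw [Module.Flat.iff_forall_isTrivialRelation]
  intro l f x hx
  obtain ⟨m, a, ha, hkey⟩ := exists_trivial f
  let xc : Fin l → Cochain I J n := x
  have hxc : ∑ i, f i • xc i = 0 := hx
  have hex : ∀ (p q : ℤ) (hpq : p + n = q), ∃ ψ : Fin m → (I.X p →ₗ[A] J.X q),
      ∀ i, ((xc i).v p q hpq).hom = ∑ j, a i j • ψ j := by
    intro p q hpq
    haveI := hI p
    haveI := hJ q
    apply hkey
    have h1 := congrArg (fun c : Cochain I J n => (c.v p q hpq).hom) hxc
    simp only [Cochain.zero_v, ModuleCat.hom_zero] at h1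
    rw [← h1]
    have h2 : ∀ c : Fin l → Cochain I J n, ((∑ i, c i).v p q hpq) = ∑ i, (c i).v p q hpq := by
      intro c
      induction (Finset.univ : Finset (Fin l)) using Finset.induction_on with
      | empty => simp
      | insert i s hi ih => rw [Finset.sum_insert hi, Finset.sum_insert hi, Cochain.add_v, ih]
    rw [h2, ModuleCat.hom_sum]
    refine Finset.sum_congr rfl (fun i _ => ?_)
    rw [Cochain.smul_v, ModuleCat.hom_smul]
  choose ψ hψ using hex
  let y : Fin m → Cochain I J n := fun j => Cochain.mk (fun p q hpq => ModuleCat.ofHom (ψ p q hpq j))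
  refine ⟨m, a, y, fun i => ?_, ha⟩
  change xc i = ∑ j, a i j • y j
  refine Cochain.ext _ _ (fun p q hpq => ?_)
  have h2 : ∀ c : Fin m → Cochain I J n, ((∑ j, c j).v p q hpq) = ∑ j, (c j).v p q hpq := by
    intro c
    induction (Finset.univ : Finset (Fin m)) using Finset.induction_on with
    | empty => simp
    | insert i s hi ih => rw [Finset.sum_insert hi, Finset.sum_insert hi, Cochain.add_v, ih]
  apply ModuleCat.hom_ext
  rw [hψ p q hpq i, h2, ModuleCat.hom_sum]
  refine Finset.sum_congr rfl (fun j _ => ?_)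
  rw [Cochain.smul_v, ModuleCat.hom_smul]
  rfl

end Groth.Agent.Lib.Helper39.GMD.HomInjFlat
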