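import Groth.Agent.Lib.Helper39.GMD.Cofinite
import Groth.Agent.Lib.Helper12.RDer2
import Groth.Agent.Lib.Helper25.DCompExists

/-!
# Local duality for unbounded complexes over a complete local ring (helper39)

For a complete Noetherian local ring `A` with normalized dualizing complex `ω` and `E` an injective
hull of the residue field, `Hom_{D(A)}(K, ω[-i]) ≃ Hom_A(H^i_m(K), E)` for *every* `K ∈ D(A)`.
-/

set_option autoImplicit false
universe u

namespace Groth.Agent.Lib.Helper39.GMD.LDUnb

open CategoryTheory CategoryTheory.Limits HomologicalComplex DerivedCategory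
open InjHull IsLocalRing DRing
open Groth.Agent.Lib.Helper88.GM1 Groth.Agent.Lib.Helper88.GM2 Groth.Agent.Lib.Helper88.GM3
open Groth.Agent.Lib.Helper25.Bidual Groth.Agent.Lib.Helper25.LocColim
open Groth.Agent.Lib.Helper25.HomCxPre Groth.Agent.Lib.Helper25.DCompRefl
open Groth.Agent.Lib.Helper39.LD Helper89.RGI
open Groth.Agent.Lib.Helper39.GMD.SymAdj Groth.Agent.Lib.Helper39.GMD.Orth
open Groth.Agent.Lib.Helper39.GMD.Main Groth.Agent.Lib.Helper39.GMD.Cofinite

attribute [local instance] HasDerivedCategory.standard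

section General

variable {A : Type u} [CommRing A]

/-- the total right derived functor of `Γ_I` exists -/
theorem hasRgammaI (I : Ideal A) : HasRgammaI I :=
  Groth.Agent.Lib.Helper12.RDer.hasRightDerivedFunctor _

/-- a reflection arrow between objects with the property is an isomorphism -/
theorem isIso_of_isRefl {C : Type*} [Category C] {P : ObjectProperty C} {X X' : C} {u : X ⟶ X'}
    (hu : IsRefl P u) (hX : P X) (hX' : P X') : IsIso u := by
  obtain ⟨v, hv⟩ := (hu X hX).2 (𝟙 X)
  have hv' : u ≫ v = 𝟙 X := hv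
  refine ⟨v, hv', ?_⟩
  apply (hu X' hX').1
  change u ≫ (v ≫ u) = u ≫ 𝟙 X'
  rw [← Category.assoc, hv', Category.id_comp, Category.comp_id]

/-- `RHom(L, J)` is derived complete when `J` is -/
theorem isDerivedComplete_homCx_right (I : Ideal A) (L J : DRing.Cx A) [J.IsKInjective]
    (hJ : IsDerivedComplete I (Q.obj J)) : IsDerivedComplete I (Q.obj (DRing.homCx L J)) := by
  intro f hf n
  let T : DRing.Cx A := (HomologicalComplex.single (ModuleCat.{u} A) (ComplexShape.up ℤ) 0).obj
    (ModuleCat.of A (Localization.Away f))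
  let e : Dual.inD A (Localization.Away f) ≅ Q.obj T :=
    (DerivedCategory.singleFunctorIsoCompQ (ModuleCat.{u} A) 0).app
      (ModuleCat.of A (Localization.Away f))
  have hz : IsZero (Q.obj (DRing.homCx T J)) := by
    apply isZero_of_homology
    intro q
    haveI : Subsingleton (Dual.inD A (Localization.Away f) ⟶ (Q.obj J)⟦q⟧) := hJ f hf q
    haveI : Subsingleton (Q.obj T ⟶ (Q.obj J)⟦q⟧) :=
      (Iso.homCongr e.symm (Iso.refl _)).subsingleton
    haveI : Subsingleton ((DRing.homCx T J).homology q) :=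
      (HomCxHom.homologyEquiv T J q).toEquiv.subsingleton
    have hz0 : IsZero ((DRing.homCx T J).homology q) := ModuleCat.isZero_of_subsingleton _
    exact hz0.of_iso
      ((DerivedCategory.homologyFunctorFactors (ModuleCat.{u} A) q).app (DRing.homCx T J))
  have hz' : IsZero ((Q.obj (DRing.homCx T J))⟦n⟧) :=
    (shiftFunctor (Dual.D A) n).map_isZero hz
  have h3 : Subsingleton (Q.obj L ⟶ (Q.obj (DRing.homCx T J))⟦n⟧) :=
    ⟨fun x y => hz'.eq_of_tgt x y⟩
  have h4 := subsingleton_swap T L J n h3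
  exact (Iso.homCongr e (Iso.refl _)).subsingleton

variable [IsNoetherianRing A]

/-- **Greenlees–May for a derived complete target**: `RHom(L, J) ⟶ RHom(Γ_I L, J)` is an
isomorphism when `J` is derived complete. -/
theorem quasiIso_homCxPre_gammaCxι (I : Ideal A) (L J : DRing.Cx A) [L.IsKInjective]
    [J.IsKInjective] (hJinj : ∀ n, Injective (J.X n))
    (hJ : IsDerivedComplete I (Q.obj J)) :
    QuasiIso (homCxPre (gammaCxι I (ComplexShape.up ℤ) L) J) := by
  haveI : HasRgammaI I := hasRgammaI I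
  haveI : HasDerivedCompletion I :=
    Groth.Agent.Lib.Helper25.DCompExists.hasDerivedCompletion I
      ((isNoetherianRing_iff_ideal_fg A).1 inferInstance I)
  have hr := isRefl_homCxPre_gammaCxι I L J hJinj
  have hc := isDerivedComplete_homCx_right I L J hJ
  have hc' : IsDerivedComplete I
      (Q.obj (DRing.homCx (gammaCx I (ComplexShape.up ℤ) L) J)) :=
    isDerivedComplete_homCx I _ J (tors_Q_gammaCx I L)
  have := isIso_of_isRefl hr hc hc'
  exact (DerivedCategory.isIso_Q_map_iff_quasiIso _ _).1 this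

end General

section Local

variable {A : Type u} [CommRing A] [IsLocalRing A] [IsNoetherianRing A]
  [IsAdicComplete (maximalIdeal A) A]
  {E : Type u} [AddCommGroup E] [Module A E] {f : ResidueField A →ₗ[A] E}

/-- **Local duality over a complete local ring**, for arbitrary objects of `D(A)`. -/
theorem localDualityUnb (ω : Dual.D A) (hω : Dual.IsDualizing A ω) (hn : Dual.IsNormalized A ω)
    (hf : IsInjectiveHull f) (K : Dual.D A) (i : ℤ) :
    Nonempty ((K ⟶ ω⟦(-i)⟧) ≃ₗ[A] (Dual2.HDI A (maximalIdeal A) K i →ₗ[A] E)) := by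
  haveI : HasRgammaI (maximalIdeal A) := hasRgammaI _
  obtain ⟨J, a, b, hJ, hb, ⟨eJ⟩⟩ := exists_bounded_injective_model ω hω
  haveI : J.IsStrictlyGE a := by
    rw [CochainComplex.isStrictlyGE_iff]
    intro q hq
    exact hb q (Or.inl hq)
  haveI : J.IsKInjective := CochainComplex.isKInjective_of_injective J a
  let EE : ModuleCat.{u} A := ModuleCat.of A E
  haveI : Injective EE := (Module.injective_iff_injective_object A E).1 hf.isInjective
  haveI : (Sg EE).IsKInjective := isKInjective_Sg EE
  obtain ⟨t, ht⟩ := exists_quasiIso_gam_Sg ω hω hn hf J eJ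
  haveI := ht
  obtain ⟨L, hL, hLinj, ⟨eL⟩⟩ := exists_kInj K
  haveI := hL
  let GmL : DRing.Cx A := gam (maximalIdeal A) L
  let GmJ : DRing.Cx A := gam (maximalIdeal A) J
  -- step 1
  let e1 : (DRing.homCx L J).homology (-i) ≃ₗ[A] (K ⟶ ω⟦(-i)⟧) :=
    (HomCxHom.homologyEquiv L J (-i)).trans
      (Linear.homCongr A eL ((shiftFunctor (Dual.D A) (-i)).mapIso eJ))
  -- step 2
  have hJc : IsDerivedComplete (maximalIdeal A) (Q.obj J) :=
    isDerivedComplete_of_finite _ (isDualizing_of_iso eJ.symm hω).finite_cohomology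
  haveI : QuasiIso (homCxPre (gammaCxι (maximalIdeal A) (ComplexShape.up ℤ) L) J) :=
    quasiIso_homCxPre_gammaCxι (maximalIdeal A) L J hJ hJc
  haveI : IsIso (HomologicalComplex.homologyMap
      (homCxPre (gammaCxι (maximalIdeal A) (ComplexShape.up ℤ) L) J) (-i)) :=
    (quasiIsoAt_iff_isIso_homologyMap _ _).1 inferInstance
  let e2 : (DRing.homCx L J).homology (-i) ≃ₗ[A] (DRing.homCx GmL J).homology (-i) :=
    (asIso (HomologicalComplex.homologyMap
      (homCxPre (gammaCxι (maximalIdeal A) (ComplexShape.up ℤ) L) J) (-i))).toLinearEquiv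
  -- step 3
  haveI : IsIso (T (maximalIdeal A) GmL J) :=
    isIso_T_of_torsion (maximalIdeal A) GmL J (fun p x => by
      obtain ⟨k, hk⟩ := (show (DRing.torsionSub (maximalIdeal A) (L.X p)) from x).2
      exact ⟨k, fun a ha => Subtype.ext (hk a ha)⟩)
  let e3 : (DRing.homCx GmL GmJ).homology (-i) ≃ₗ[A] (DRing.homCx GmL J).homology (-i) :=
    (asIso (HomologicalComplex.homologyMap (T (maximalIdeal A) GmL J) (-i))).toLinearEquiv
  -- step 4
  haveI : ∀ n, Injective (GmJ.X n) := fun n => injective_gammaCx_X (maximalIdeal A) J hJ n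
  haveI : GmJ.IsStrictlyGE a := by
    rw [CochainComplex.isStrictlyGE_iff]
    intro q hq
    haveI : Subsingleton (J.X q) := ModuleCat.subsingleton_of_isZero (hb q (Or.inl hq))
    haveI : Subsingleton (GmJ.X q) :=
      ⟨fun x y => Subtype.ext (Subsingleton.elim (α := J.X q) x.1 y.1)⟩
    exact ModuleCat.isZero_of_subsingleton _
  haveI : GmJ.IsKInjective := CochainComplex.isKInjective_of_injective GmJ a
  obtain ⟨θ⟩ := homCx_iso_of_quasiIso_right GmL t
  let e4 : (DRing.homCx GmL GmJ).homology (-i) ≃ₗ[A] (DRing.homCx GmL (Sg EE)).homology (-i) :=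
    (((DerivedCategory.homologyFunctorFactors (ModuleCat.{u} A) (-i)).app
        (DRing.homCx GmL GmJ)).symm ≪≫
      (DerivedCategory.homologyFunctor (ModuleCat.{u} A) (-i)).mapIso θ ≪≫
      (DerivedCategory.homologyFunctorFactors (ModuleCat.{u} A) (-i)).app
        (DRing.homCx GmL (Sg EE))).toLinearEquiv
  -- step 5
  let e5 : (DRing.homCx GmL (Sg EE)).homology (-i) ≃ₗ[A] (GmL.homology i ⟶ EE) :=
    homologyEquivSgl GmL EE (show i + -i = 0 by omega)
  let e6 : (GmL.homology i ⟶ EE) ≃ₗ[A] (GmL.homology i →ₗ[A] E) :=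
    ModuleCat.homLinearEquiv (S := A)
  let e7 : Dual2.HDI A (maximalIdeal A) K i ≃ₗ[A] GmL.homology i :=
    hdiEquivHomology (maximalIdeal A) L K eL i
  let e8 : (GmL.homology i →ₗ[A] E) ≃ₗ[A] (Dual2.HDI A (maximalIdeal A) K i →ₗ[A] E) :=
    LinearEquiv.arrowCongr e7.symm (LinearEquiv.refl A E)
  exact ⟨e1.symm.trans (e2.trans (e3.symm.trans (e4.trans (e5.trans (e6.trans e8)))))⟩

end Local

end Groth.Agent.Lib.Helper39.GMD.LDUnb
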