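import Groth.Agent.Lib.Helper39.LD.EtaC
import Groth.Agent.Lib.Helper39.LD.HomSgl
import Groth.Agent.Lib.Helper85.MatlisDual

/-!
# Matlis biduality for complexes with Artinian cohomology over a complete local ring (helper39)
-/

set_option autoImplicit false
universe u

namespace Groth.Agent.Lib.Helper39.GMD.MatlisCx

open CategoryTheory CategoryTheory.Limits HomologicalComplex CochainComplex.HomComplex
open Groth.Agent.Lib.Helper25.HomTensor Groth.Agent.Lib.Helper25.TensorCx
open Groth.Agent.Lib.Helper39.LD Groth.Agent.Lib.Helper39.LD.EtaC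

section General

variable {A : Type u} [CommRing A]

/-- an elementwise criterion for the injectivity of a map on cohomology -/
theorem homologyMap_injective_of_elementwise {X Y : DRing.Cx A} (g : X ⟶ Y) (m n : ℤ)
    (hnm : n + 1 = m)
    (h : ∀ (x : X.X m), (X.d m (m + 1)).hom x = 0 → ∀ y : Y.X n,
      (g.f m).hom x = (Y.d n m).hom y → ∃ w : X.X n, (X.d n m).hom w = x) :
    Function.Injective (HomologicalComplex.homologyMap g m).hom := by
  rw [injective_iff_map_eq_zero]
  intro ξ hξ
  obtain ⟨z, rfl⟩ := (ModuleCat.epi_iff_surjective (X.homologyπ m)).1 inferInstance ξ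
  have h1 : (Y.homologyπ m).hom ((HomologicalComplex.cyclesMap g m).hom z) = 0 := by
    have := ConcreteCategory.congr_hom (HomologicalComplex.homologyπ_naturality g m) z
    simp only [ModuleCat.hom_comp, LinearMap.coe_comp, Function.comp_apply] at this
    rw [← this]
    exact hξ
  have hprev : (ComplexShape.up ℤ).prev m = n := by
    rw [CochainComplex.prev]
    omega
  have hex : (ShortComplex.mk (Y.toCycles n m) (Y.homologyπ m) (by simp)).Exact :=
    ShortComplex.exact_of_g_is_cokernel _ (Y.homologyIsCokernel n m hprev)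
  obtain ⟨y, hy⟩ := (ShortComplex.moduleCat_exact_iff _).1 hex _ h1
  have hy' : (Y.toCycles n m).hom y = (HomologicalComplex.cyclesMap g m).hom z := hy
  have h2 : (g.f m).hom ((X.iCycles m).hom z) = (Y.d n m).hom y := by
    have e1 := ConcreteCategory.congr_hom (HomologicalComplex.cyclesMap_i g m) z
    have e2 := ConcreteCategory.congr_hom (Y.toCycles_i n m) y
    simp only [ModuleCat.hom_comp, LinearMap.coe_comp, Function.comp_apply] at e1 e2
    rw [← e1, ← hy', e2]
  have h3 : (X.d m (m + 1)).hom ((X.iCycles m).hom z) = 0 := by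
    have e : (X.iCycles m ≫ X.d m (m + 1)).hom z = 0 := by
      rw [X.iCycles_d]
      rfl
    exact e
  obtain ⟨w, hw⟩ := h _ h3 y h2
  have h4 : (X.toCycles n m).hom w = z := by
    have hmono : Function.Injective (X.iCycles m).hom :=
      (ModuleCat.mono_iff_injective (X.iCycles m)).1 inferInstance
    apply hmono
    have e := ConcreteCategory.congr_hom (X.toCycles_i n m) w
    simp only [ModuleCat.hom_comp, LinearMap.coe_comp, Function.comp_apply] at e
    rw [e, hw]
  rw [← h4]
  have e : (X.toCycles n m ≫ X.homologyπ m).hom w = 0 := by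
    rw [X.toCycles_comp_homologyπ]
    rfl
  exact e

end General

section Local

open InjHull IsLocalRing Groth.Agent.Lib.Helper85.Matlis

variable {A : Type u} [CommRing A] [IsLocalRing A] {E : Type u} [AddCommGroup E] [Module A E]
  {f : ResidueField A →ₗ[A] E}

/-- elementwise injectivity of the Matlis biduality map on cohomology -/
theorem etaC_inj_elem (hf : IsInjectiveHull f) (K₀ : DRing.Cx A) (m n : ℤ) (hnm : n + 1 = m)
    (x : K₀.X m)
    (y : (DRing.homCx (DRing.homCx K₀ (Sg (ModuleCat.of A E))) (Sg (ModuleCat.of A E))).X n)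
    (hy : ((etaC (Sg (ModuleCat.of A E)) K₀).f m).hom x =
      ((DRing.homCx (DRing.homCx K₀ (Sg (ModuleCat.of A E))) (Sg (ModuleCat.of A E))).d n m).hom y) :
    ∃ w : K₀.X n, (K₀.d n m).hom w = x := by
  by_contra hne
  push Not at hne
  let EE : ModuleCat.{u} A := ModuleCat.of A E
  let D : DRing.Cx A := DRing.homCx K₀ (Sg EE)
  let B : Submodule A (K₀.X m) := LinearMap.range (K₀.d n m).hom
  have hxB : B.mkQ x ≠ 0 := by
    intro h0
    rw [Submodule.mkQ_apply, Submodule.Quotient.mk_eq_zero] at h0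
    obtain ⟨w, hw⟩ := h0
    exact hne w hw
  obtain ⟨ψ, hψ⟩ := exists_hom_apply_ne_zero hf (B.mkQ x) hxB
  let φ₀ : K₀.X m ⟶ EE := ModuleCat.ofHom (ψ ∘ₗ B.mkQ)
  have hd0 : K₀.d n m ≫ φ₀ = 0 := by
    ext w
    change ψ (B.mkQ ((K₀.d n m).hom w)) = 0
    have : B.mkQ ((K₀.d n m).hom w) = 0 := by
      rw [Submodule.mkQ_apply, Submodule.Quotient.mk_eq_zero]
      exact ⟨w, rfl⟩
    rw [this, map_zero]
  let g : K₀.X m ⟶ (Sg EE).X 0 := φ₀ ≫ (sig EE).inv
  have hmm : m + (-m) = 0 := by omega
  let φ : Cochain K₀ (Sg EE) (-m) := Cochain.single g (-m)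
  have hδ : δ (-m) (-n) φ = 0 := by
    change δ (-m) (-n) (Cochain.single g (-m)) = 0
    rw [δ_single_Sg (n := -m) g n hnm (-n) (by omega)]
    have : K₀.d n m ≫ g = 0 := by
      change K₀.d n m ≫ φ₀ ≫ (sig EE).inv = 0
      rw [← Category.assoc, hd0, zero_comp]
    rw [this, Cochain.single_zero, smul_zero]
  -- evaluate both sides at `φ`
  have hL := etaC_apply (Sg EE) K₀ m (-m) 0 (by omega) x φ
  have hφv : (φ.v m 0 (by omega)).hom x = g.hom x := by
    change ((Cochain.single g (-m)).v m 0 hmm).hom x = g.hom x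
    rw [Cochain.single_v]
  rw [hφv] at hL
  have hR : ((toCochain D (Sg EE) m (((DRing.homCx D (Sg EE)).d n m).hom y)).v (-m) 0
      (by omega)).hom (ofCochain K₀ (Sg EE) (-m) φ) = 0 := by
    rw [toCochain_d, δ_v_apply hnm (toCochain D (Sg EE) n y) (-m) 0 (by omega)]
    have h1 : ((Sg EE).d (0 - 1) 0) = 0 := by
      apply (isZero_Sg_X EE (0 - 1) (by omega)).eq_of_src
    have h2 : (D.d (-m) (-m + 1)).hom (ofCochain K₀ (Sg EE) (-m) φ) = 0 := by
      have h3 : -m + 1 = -n := by omega
      have : toCochain K₀ (Sg EE) (-m + 1) ((D.d (-m) (-m + 1)).hom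
          (ofCochain K₀ (Sg EE) (-m) φ)) = 0 := by
        rw [toCochain_d]
        change δ (-m) (-m + 1) φ = 0
        rw [h3]
        exact hδ
      exact this
    rw [h1, h2, map_zero, smul_zero, add_zero]
    rfl
  have hy' : ((toCochain D (Sg EE) m (((etaC (Sg EE) K₀).f m).hom x)).v (-m) 0
      (by omega)).hom (ofCochain K₀ (Sg EE) (-m) φ) = 0 := by
    rw [hy]
    exact hR
  rw [hL] at hy'
  have hg0 : g.hom x = 0 := by
    rcases Int.units_eq_one_or ((m * -m).negOnePow) with h | h
    · rw [h, one_smul] at hy'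
      exact hy'
    · rw [h, Units.neg_smul, one_smul, neg_eq_zero] at hy'
      exact hy'
  apply hψ
  have h5 : (sig EE).hom.hom (g.hom x) = ψ (B.mkQ x) := by
    change ((φ₀ ≫ (sig EE).inv) ≫ (sig EE).hom).hom x = _
    rw [Category.assoc, Iso.inv_hom_id, Category.comp_id]
    rfl
  rw [← h5, hg0, map_zero]

variable [IsNoetherianRing A]

/-- the cohomology of the Matlis dual of a complex with Artinian cohomology is finite -/
theorem finite_homology_dual [IsAdicComplete (maximalIdeal A) A] (hf : IsInjectiveHull f)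
    (K₀ : DRing.Cx A) (m n : ℤ) (hmn : m + n = 0) (hart : IsArtinian A (K₀.homology m)) :
    Module.Finite A ((DRing.homCx K₀ (Sg (ModuleCat.of A E))).homology n) := by
  haveI : Injective (ModuleCat.of A E) :=
    (Module.injective_iff_injective_object A E).1 hf.isInjective
  haveI := hart
  haveI : Module.Finite A (K₀.homology m →ₗ[A] E) := finite_dual_of_isArtinian hf _
  let e1 := homologyEquivSgl K₀ (ModuleCat.of A E) hmn
  let e2 : (K₀.homology m ⟶ ModuleCat.of A E) ≃ₗ[A] (K₀.homology m →ₗ[A] E) :=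
    ModuleCat.homLinearEquiv (S := A)
  exact Module.Finite.equiv (e1.trans e2).symm

theorem isZero_homology_dual (hf : IsInjectiveHull f)
    (K₀ : DRing.Cx A) (m n : ℤ) (hmn : m + n = 0) (hz : IsZero (K₀.homology m)) :
    IsZero ((DRing.homCx K₀ (Sg (ModuleCat.of A E))).homology n) := by
  haveI : Injective (ModuleCat.of A E) :=
    (Module.injective_iff_injective_object A E).1 hf.isInjective
  let e1 := homologyEquivSgl K₀ (ModuleCat.of A E) hmn
  haveI : Subsingleton (K₀.homology m ⟶ ModuleCat.of A E) :=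
    ⟨fun a b => hz.eq_of_src a b⟩
  haveI : Subsingleton ((DRing.homCx K₀ (Sg (ModuleCat.of A E))).homology n) :=
    e1.toEquiv.subsingleton
  exact ModuleCat.isZero_of_subsingleton _

variable [IsAdicComplete (maximalIdeal A) A]

/-- abstract identification of the cohomology of the Matlis double dual -/
theorem nonempty_ddEquiv (hf : IsInjectiveHull f) (K₀ : DRing.Cx A) (n : ℤ)
    (hart : IsArtinian A (K₀.homology n)) :
    Nonempty ((DRing.homCx (DRing.homCx K₀ (Sg (ModuleCat.of A E)))
      (Sg (ModuleCat.of A E))).homology n ≃ₗ[A] K₀.homology n) := by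
  haveI : Injective (ModuleCat.of A E) :=
    (Module.injective_iff_injective_object A E).1 hf.isInjective
  haveI := hart
  let EE : ModuleCat.{u} A := ModuleCat.of A E
  let D : DRing.Cx A := DRing.homCx K₀ (Sg EE)
  let e1 : (DRing.homCx D (Sg EE)).homology n ≃ₗ[A] (D.homology (-n) ⟶ EE) :=
    homologyEquivSgl D EE (show -n + n = 0 by omega)
  let e2 : D.homology (-n) ≃ₗ[A] (K₀.homology n ⟶ EE) :=
    homologyEquivSgl K₀ EE (show n + -n = 0 by omega)
  let e3 : (D.homology (-n) ⟶ EE) ≃ₗ[A] (D.homology (-n) →ₗ[A] E) :=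
    ModuleCat.homLinearEquiv (S := A)
  let e4 : (K₀.homology n ⟶ EE) ≃ₗ[A] (K₀.homology n →ₗ[A] E) :=
    ModuleCat.homLinearEquiv (S := A)
  let e5 : (D.homology (-n) →ₗ[A] E) ≃ₗ[A] ((K₀.homology n →ₗ[A] E) →ₗ[A] E) :=
    LinearEquiv.arrowCongr (e2.trans e4) (LinearEquiv.refl A E)
  let e6 : K₀.homology n ≃ₗ[A] ((K₀.homology n →ₗ[A] E) →ₗ[A] E) :=
    LinearEquiv.ofBijective _ (applyₗ_bijective_of_isArtinian hf (K₀.homology n))
  exact ⟨e1.trans (e3.trans (e5.trans e6.symm))⟩

/-- **Matlis biduality** for complexes with Artinian cohomology over a complete local ring -/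
theorem quasiIso_etaC_Sg (hf : IsInjectiveHull f) (K₀ : DRing.Cx A)
    (hart : ∀ n : ℤ, IsArtinian A (K₀.homology n)) :
    QuasiIso (etaC (Sg (ModuleCat.of A E)) K₀) := by
  rw [quasiIso_iff]
  intro n
  rw [quasiIsoAt_iff_isIso_homologyMap, ConcreteCategory.isIso_iff_bijective]
  have hinj : Function.Injective
      (HomologicalComplex.homologyMap (etaC (Sg (ModuleCat.of A E)) K₀) n).hom :=
    homologyMap_injective_of_elementwise _ n (n - 1) (by omega)
      (fun x _ y hy => etaC_inj_elem hf K₀ n (n - 1) (by omega) x y hy)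
  refine ⟨hinj, ?_⟩
  obtain ⟨e⟩ := nonempty_ddEquiv hf K₀ n (hart n)
  haveI := hart n
  let ψ : K₀.homology n →ₗ[A] K₀.homology n :=
    e.toLinearMap ∘ₗ (HomologicalComplex.homologyMap (etaC (Sg (ModuleCat.of A E)) K₀) n).hom
  have hψ : Function.Injective ψ := e.injective.comp hinj
  have hs : Function.Surjective ψ := IsArtinian.surjective_of_injective_endomorphism ψ hψ
  intro h'
  obtain ⟨h, hh⟩ := hs (e h')
  exact ⟨h, e.injective hh⟩

end Local

end Groth.Agent.Lib.Helper39.GMD.MatlisCx
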