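import Groth.Agent.Lib.Helper39.GMD.SymAdj
import Groth.Agent.Lib.Helper88.GM3

/-!
# Orthogonality for `RHom(-, J)`: torsion objects and derived complete objects (helper39)
-/

set_option autoImplicit false
universe u

namespace Groth.Agent.Lib.Helper39.GMD.Orth

open CategoryTheory CategoryTheory.Limits HomologicalComplex DerivedCategory
open CochainComplex.HomComplex
open DRing Groth.Agent.Lib.Helper88.GM1 Groth.Agent.Lib.Helper88.GM2 Groth.Agent.Lib.Helper88.GM3
open Groth.Agent.Lib.Helper25.HomCxPre Groth.Agent.Lib.Helper25.RHomKInj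
open Groth.Agent.Lib.Helper39.GMD.SymAdj

attribute [local instance] HasDerivedCategory.standard

variable {A : Type u} [CommRing A]

/-- scalar multiplication on `Hom•(T, J)` is precomposition with scalar multiplication on `T` -/
theorem smul_id_homCx (T J : DRing.Cx A) (f : A) :
    f • 𝟙 (DRing.homCx T J) = homCxPre (f • 𝟙 T) J := by
  refine HomologicalComplex.hom_ext _ _ fun i => ModuleCat.hom_ext (LinearMap.ext fun
    (z : Cochain T J i) => ?_)
  change f • z = (Cochain.ofHom (f • 𝟙 T)).comp z (zero_add i)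
  rw [Groth.Agent.Lib.Helper25.Bidual.ofHom_smul, Cochain.smul_comp]
  congr 1
  exact (Cochain.id_comp _).symm

theorem isIso_smul_Q_homCx (T J : DRing.Cx A) [J.IsKInjective] (f : A)
    (h : IsIso (f • 𝟙 (Q.obj T))) : IsIso (f • 𝟙 (Q.obj (DRing.homCx T J))) := by
  have h1 : f • 𝟙 (Q.obj T) = Q.map (f • 𝟙 T) := by
    rw [CategoryTheory.Functor.map_smul, CategoryTheory.Functor.map_id]
  rw [h1, isIso_Q_map_iff_quasiIso] at h
  haveI := h
  have h2 : f • 𝟙 (Q.obj (DRing.homCx T J)) = Q.map (homCxPre (f • 𝟙 T) J) := by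
    rw [← smul_id_homCx, CategoryTheory.Functor.map_smul, CategoryTheory.Functor.map_id]
  rw [h2, isIso_Q_map_iff_quasiIso]
  exact quasiIso_homCxPre _ J

theorem isIso_smul_shift (X : Dual.D A) (f : A) (n : ℤ) (h : IsIso (f • 𝟙 X)) :
    IsIso (f • 𝟙 (X⟦n⟧)) := by
  have : f • 𝟙 (X⟦n⟧) = (f • 𝟙 X)⟦n⟧' := by
    rw [CategoryTheory.Functor.map_smul, CategoryTheory.Functor.map_id]
  rw [this]
  infer_instance

theorem isIso_smul_of_iso {X Y : Dual.D A} (e : X ≅ Y) (f : A) (h : IsIso (f • 𝟙 X)) :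
    IsIso (f • 𝟙 Y) := by
  have : f • 𝟙 Y = e.inv ≫ (f • 𝟙 X) ≫ e.hom := by
    rw [Linear.smul_comp, Category.id_comp, Linear.comp_smul, e.inv_hom_id]
  rw [this]
  infer_instance

variable [IsNoetherianRing A] (I : Ideal A) [HasRgammaI I]

/-- objects on which some `f ∈ I` acts invertibly are right orthogonal to the torsion objects -/
theorem rightOrth_of_isIso_smul (X : Dual.D A) (f : A) (hf : f ∈ I) (h : IsIso (f • 𝟙 X)) :
    RightOrth (Tors I) X := by
  let W := (RgammaI I).obj X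
  let ε : W ⟶ X := (RgammaIε I).app X
  have hW : Tors I W := tors_rg I X
  let g : W ⟶ X := ε ≫ inv (f • 𝟙 X)
  have hg' : g ≫ (f • 𝟙 X) = ε := by
    change (ε ≫ inv (f • 𝟙 X)) ≫ (f • 𝟙 X) = ε
    rw [Category.assoc, IsIso.inv_hom_id, Category.comp_id]
  obtain ⟨h', hh⟩ := (comp_ε_bij I W hW X).2 g
  have hh' : h' ≫ ε = g := hh
  have h1 : f • h' = 𝟙 W := by
    apply (comp_ε_bij I W hW X).1
    change (f • h') ≫ ε = 𝟙 W ≫ ε
    rw [Linear.smul_comp, hh', Category.id_comp, ← hg', Linear.comp_smul, Category.comp_id]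
  have h2 : IsIso (f • 𝟙 W) :=
    ⟨h', by rw [Linear.smul_comp, Category.id_comp, h1],
      by rw [Linear.comp_smul, Category.comp_id, h1]⟩
  have h3 : IsZero W := isZero_of_tors_of_isIso I W hW f hf h2
  intro T hT
  refine ⟨fun a b => ?_⟩
  obtain ⟨a', rfl⟩ := (comp_ε_bij I T hT X).2 a
  obtain ⟨b', rfl⟩ := (comp_ε_bij I T hT X).2 b
  rw [h3.eq_of_tgt a' b']

/-- **Claim A**: `RHom(Γ, J)` is derived complete when `Γ` is a torsion object. -/
theorem isDerivedComplete_homCx (Γ J : DRing.Cx A) [J.IsKInjective] (hΓ : Tors I (Q.obj Γ)) :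
    IsDerivedComplete I (Q.obj (DRing.homCx Γ J)) := by
  intro f hf n
  let T : DRing.Cx A := (HomologicalComplex.single (ModuleCat.{u} A) (ComplexShape.up ℤ) 0).obj
    (ModuleCat.of A (Localization.Away f))
  let e : Dual.inD A (Localization.Away f) ≅ Q.obj T :=
    (DerivedCategory.singleFunctorIsoCompQ (ModuleCat.{u} A) 0).app
      (ModuleCat.of A (Localization.Away f))
  have h0 : IsIso (f • 𝟙 (Dual.inD A (Localization.Away f))) := by
    have h := isIso_smul_away (A := A) f 1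
    rw [pow_one] at h
    have : f • 𝟙 (Dual.inD A (Localization.Away f)) =
        (DerivedCategory.singleFunctor (ModuleCat.{u} A) 0).map
          (f • 𝟙 (ModuleCat.of A (Localization.Away f))) := by
      rw [CategoryTheory.Functor.map_smul, CategoryTheory.Functor.map_id]
    rw [this]
    infer_instance
  have h1 : IsIso (f • 𝟙 (Q.obj T)) := isIso_smul_of_iso e f h0
  have h2 : IsIso (f • 𝟙 ((Q.obj (DRing.homCx T J))⟦n⟧)) :=
    isIso_smul_shift _ f n (isIso_smul_Q_homCx T J f h1)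
  have h3 : Subsingleton (Q.obj Γ ⟶ (Q.obj (DRing.homCx T J))⟦n⟧) :=
    rightOrth_of_isIso_smul I _ f hf h2 _ hΓ
  have h4 := subsingleton_swap T Γ J n h3
  exact (Iso.homCongr e (Iso.refl _)).subsingleton

variable [HasDerivedCompletion I]

/-- **Claim B**: `RHom(C, J)` is left orthogonal to the derived complete objects when `C` is right
orthogonal to the torsion objects. -/
theorem leftOrth_homCx (C J : DRing.Cx A) [J.IsKInjective] (hC : RightOrth (Tors I) (Q.obj C)) :
    LeftOrth (IsDerivedComplete I) (Q.obj (DRing.homCx C J)) := by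
  apply lo_of_ro
  intro T hT
  let T' : DRing.Cx A := Q.objPreimage T
  let e : Q.obj T' ≅ T := Q.objObjPreimageIso T
  have hT' : Tors I (Q.obj T') := by
    intro i
    exact Helper89.RGI.torsion_of_iso I
      ((homologyFunctor (ModuleCat.{u} A) i).mapIso e) (hT i)
  have h1 : IsDerivedComplete I ((Q.obj (DRing.homCx T' J))⟦(0 : ℤ)⟧) :=
    comp_shift I _ 0 (isDerivedComplete_homCx I T' J hT')
  have h2 : Subsingleton (Q.obj C ⟶ (Q.obj (DRing.homCx T' J))⟦(0 : ℤ)⟧) :=
    lo_of_ro I _ hC _ h1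
  have h3 := subsingleton_swap T' C J 0 h2
  have e' : (T ⟶ Q.obj (DRing.homCx C J)) ≃ (Q.obj T' ⟶ (Q.obj (DRing.homCx C J))⟦(0 : ℤ)⟧) :=
    Iso.homCongr e.symm ((shiftFunctorZero (Dual.D A) ℤ).app (Q.obj (DRing.homCx C J))).symm
  exact e'.subsingleton

end Groth.Agent.Lib.Helper39.GMD.Orth
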