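import Groth.Agent.Lib.Helper25.CdDim.HDIExact
import Groth.Agent.Lib.Helper39.LD.Bridge
import Groth.Agent.Lib.Helper84.Devissage

/-!
# Killing `H^n_I(K)` by a power of `f` via dévissage on the cohomology of `K` (helper39)

If `cd(A, I) ≤ d`, `K` has bounded cohomology and `f` kills `H^j(K)` for `j ≥ -(s + d)`, then a
power of `f` kills `H^n_I(K)` for all `n ≥ -s`.
-/

set_option autoImplicit false
universe u

namespace Groth.Agent.Lib.Helper39.GMD.RepKill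

open CategoryTheory CategoryTheory.Limits CategoryTheory.Pretriangulated DerivedCategory Opposite
open Groth.Agent.Lib.Helper39.Dual Groth.Agent.Lib.Helper25.CdDim

attribute [local instance] HasDerivedCategory.standard

variable {A : Type u} [CommRing A]

/-- exactness of `Hom(S, -[n])` on a distinguished triangle -/
theorem exists_lift_shift (T : Triangle (Dual.D A)) (hT : T ∈ distTriang (Dual.D A)) (n : ℤ)
    {S : Dual.D A} (ψ : S ⟶ T.obj₂⟦n⟧) (hψ : ψ ≫ T.mor₂⟦n⟧' = 0) :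
    ∃ χ : S ⟶ T.obj₁⟦n⟧, χ ≫ T.mor₁⟦n⟧' = ψ := by
  have h := (preadditiveCoyoneda.obj (op S)).homologySequence_exact₂ T hT n
  rw [ShortComplex.ab_exact_iff] at h
  obtain ⟨x₁, hx₁⟩ := h ψ hψ
  exact ⟨x₁, hx₁⟩

/-- `a` kills every representative of a class of `H^n_I(X)` at some later stage -/
def RepKill (I : Ideal A) (a : A) (X : Dual.D A) (n : ℤ) : Prop :=
  ∀ (k : ℕᵒᵖ) (φ : (Sd I).obj k ⟶ X⟦n⟧), ∃ (k' : ℕᵒᵖ) (g : k' ⟶ k), (Sd I).map g ≫ (a • φ) = 0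

variable (I : Ideal A)

theorem smul_eq_zero_of_repKill {a : A} {X : Dual.D A} {n : ℤ} (h : RepKill I a X n)
    (x : Dual2.HDI A I X n) : a • x = 0 := by
  obtain ⟨k, φ, rfl⟩ := hdi_exists_rep I X n x
  let φm : (Sd I).obj (op k) ⟶ X⟦n⟧ := φ
  obtain ⟨k', g, h0⟩ := h (op k) φm
  let g' : (op (op k) : ℕᵒᵖᵒᵖ) ⟶ op k' := g.op
  have h7 : ((hdiDiag I X n).map g').hom (a • φ) = 0 := h0
  have h8 := congrArg (fun F => F.hom (a • φ)) (colimit.w (hdiDiag I X n) g')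
  simp only [ModuleCat.hom_comp, LinearMap.comp_apply] at h8
  rw [← map_smul, ← h8, h7, map_zero]

theorem repKill_of_smul_eq_zero {a : A} {X : Dual.D A} {n : ℤ}
    (h : ∀ x : Dual2.HDI A I X n, a • x = 0) : RepKill I a X n := by
  intro k φ
  let x0 : (hdiDiag I X n).obj (op k) := φ
  haveI := presForget (hdiDiag I X n)
  have hx : (colimit.ι (hdiDiag I X n) (op k)).hom (a • x0) = 0 := by
    rw [map_smul]
    exact h _
  obtain ⟨j', g, hg⟩ := Concrete.colimit_rep_eq_zero A (hdiDiag I X n) (op k) (a • x0) hx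
  exact ⟨j'.unop, g.unop, hg⟩

theorem repKill_of_subsingleton {X : Dual.D A} {n : ℤ} (h : Subsingleton (Dual2.HDI A I X n))
    (a : A) : RepKill I a X n :=
  repKill_of_smul_eq_zero I (fun _ => h.elim _ _)

theorem repKill_of_iso {a : A} {X Y : Dual.D A} {n : ℤ} (e : X ≅ Y) (h : RepKill I a X n) :
    RepKill I a Y n := by
  intro k φ
  obtain ⟨k', g, hg⟩ := h k (φ ≫ e.inv⟦n⟧')
  refine ⟨k', g, ?_⟩
  have h1 : a • φ = (a • (φ ≫ e.inv⟦n⟧')) ≫ e.hom⟦n⟧' := by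
    rw [Linear.smul_comp, Category.assoc, ← Functor.map_comp, e.inv_hom_id,
      CategoryTheory.Functor.map_id, Category.comp_id]
  rw [h1, ← Category.assoc, hg, zero_comp]

theorem repKill_of_isZero {X : Dual.D A} {n : ℤ} (hX : IsZero X) (a : A) : RepKill I a X n := by
  intro k φ
  refine ⟨k, 𝟙 k, ?_⟩
  have h0 : φ = 0 := ((shiftFunctor (Dual.D A) n).map_isZero hX).eq_of_tgt _ _
  rw [h0, smul_zero, comp_zero]

theorem repKill_of_smul_id {a : A} {X : Dual.D A} (h : a • 𝟙 X = 0) (n : ℤ) :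
    RepKill I a X n := by
  intro k φ
  refine ⟨k, 𝟙 k, ?_⟩
  have h1 : a • φ = φ ≫ (a • 𝟙 X)⟦n⟧' := by
    rw [Functor.map_smul, CategoryTheory.Functor.map_id, Linear.comp_smul, Category.comp_id]
  rw [h1, h, Functor.map_zero, comp_zero, comp_zero]

theorem repKill_mid {a b : A} (T : Triangle (Dual.D A)) (hT : T ∈ distTriang (Dual.D A)) (n : ℤ)
    (h₁ : RepKill I a T.obj₁ n) (h₃ : RepKill I b T.obj₃ n) : RepKill I (a * b) T.obj₂ n := by
  intro k φ
  obtain ⟨k₁, g₁, hg₁⟩ := h₃ k (φ ≫ T.mor₂⟦n⟧')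
  let ψ : (Sd I).obj k₁ ⟶ T.obj₂⟦n⟧ := (Sd I).map g₁ ≫ (b • φ)
  have hψ : ψ ≫ T.mor₂⟦n⟧' = 0 := by
    have : ψ ≫ T.mor₂⟦n⟧' = (Sd I).map g₁ ≫ (b • (φ ≫ T.mor₂⟦n⟧')) := by
      simp only [ψ, Category.assoc, Linear.smul_comp]
    rw [this, hg₁]
  obtain ⟨χ, hχ⟩ := exists_lift_shift T hT n ψ hψ
  obtain ⟨k₂, g₂, hg₂⟩ := h₁ k₁ χ
  refine ⟨k₂, g₂ ≫ g₁, ?_⟩
  have h1 : (Sd I).map (g₂ ≫ g₁) ≫ ((a * b) • φ) = ((Sd I).map g₂ ≫ (a • χ)) ≫ T.mor₁⟦n⟧' := by
    rw [Category.assoc, Linear.smul_comp, hχ, Functor.map_comp, Category.assoc, mul_smul]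
    simp only [ψ, Linear.comp_smul]
  rw [h1, hg₂, zero_comp]

/-- the dévissage property: a fixed power of `f` kills `H^n_I(X)` for all `n ≥ -s` -/
def KillProp (f : A) (s : ℤ) : ObjectProperty (Dual.D A) :=
  fun X => ∃ N : ℕ, ∀ n : ℤ, -s ≤ n → RepKill I (f ^ N) X n

instance (f : A) (s : ℤ) : (KillProp I f s).IsClosedUnderIsomorphisms where
  of_iso e h := by
    obtain ⟨N, hN⟩ := h
    exact ⟨N, fun n hn => repKill_of_iso I e (hN n hn)⟩

theorem killProp_zero (f : A) (s : ℤ) (X : Dual.D A) (hX : IsZero X) : KillProp I f s X :=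
  ⟨0, fun _ _ => repKill_of_isZero I hX _⟩

theorem killProp_ext (f : A) (s : ℤ) (T : Triangle (Dual.D A)) (hT : T ∈ distTriang (Dual.D A))
    (h₁ : KillProp I f s T.obj₁) (h₃ : KillProp I f s T.obj₃) : KillProp I f s T.obj₂ := by
  obtain ⟨N₁, hN₁⟩ := h₁
  obtain ⟨N₃, hN₃⟩ := h₃
  refine ⟨N₁ + N₃, fun n hn => ?_⟩
  rw [pow_add]
  exact repKill_mid I T hT n (hN₁ n hn) (hN₃ n hn)

/-- vanishing of `H^n_I(N[-i])` from `cd(A, I) ≤ d` -/
theorem subsingleton_hdi_single {d : ℕ} (hcd : LocCoh.CdLE A I d) (N : ModuleCat.{u} A) (i n : ℤ)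
    (h : (d : ℤ) < n - i) :
    Subsingleton (Dual2.HDI A I ((singleFunctor (ModuleCat.{u} A) i).obj N) n) := by
  obtain ⟨m, hm⟩ : ∃ m : ℕ, (m : ℤ) = n - i := ⟨(n - i).toNat, Int.toNat_of_nonneg (by omega)⟩
  let e0 : ((singleFunctor (ModuleCat.{u} A) 0).obj N)⟦-i⟧ ≅
      (singleFunctor (ModuleCat.{u} A) i).obj N :=
    ((singleFunctors (ModuleCat.{u} A)).shiftIso (-i) i 0 (by lia)).app N
  let θ : ((singleFunctor (ModuleCat.{u} A) i).obj N)⟦n⟧ ≅
      ((singleFunctor (ModuleCat.{u} A) 0).obj N)⟦(m : ℤ)⟧ :=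
    (shiftFunctor (Dual.D A) n).mapIso e0.symm ≪≫
      ((shiftFunctorAdd' (Dual.D A) (-i) n (m : ℤ) (by omega)).app _).symm
  let eR : Dual2.HDI A I ((singleFunctor (ModuleCat.{u} A) i).obj N) n ≅
      Dual2.HDI A I ((singleFunctor (ModuleCat.{u} A) 0).obj N) m :=
    HasColimit.isoOfNatIso (Functor.isoWhiskerLeft (Sd I).op
      ((linearYoneda A (Dual.D A)).mapIso θ))
  let E2 := Groth.Agent.Lib.Helper39.LD.hdiEquivH I m N
  haveI : Subsingleton (LocCoh.H I m N) := hcd N m (by omega)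
  exact (eR.toLinearEquiv.trans E2).toEquiv.subsingleton

/-- **the dévissage**: a power of `f` kills `H^n_I(K)` for `n ≥ -s` -/
theorem exists_pow_kill_hdi {d : ℕ} (hcd : LocCoh.CdLE A I d) (f : A) (s : ℕ) (K : Dual.D A)
    (a b : ℤ)
    (hK : ∀ i : ℤ, i < a ∨ b < i → IsZero ((homologyFunctor (ModuleCat.{u} A) i).obj K))
    (hf : ∀ i : ℤ, -((s : ℤ) + d) ≤ i →
      ∀ x : ((homologyFunctor (ModuleCat.{u} A) i).obj K), f • x = 0) :
    ∃ N : ℕ, ∀ n : ℤ, -(s : ℤ) ≤ n → ∀ x : Dual2.HDI A I K n, f ^ N • x = 0 := by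
  have key : KillProp I f s K := by
    refine Groth.Agent.Lib.Helper84.Devissage.prop_of_bounded_homology (KillProp I f s)
      (killProp_zero I f s) (killProp_ext I f s) K a b hK (fun i => ?_)
    by_cases hi : -((s : ℤ) + d) ≤ i
    · refine ⟨1, fun n _ => ?_⟩
      rw [pow_one]
      refine repKill_of_smul_id I ?_ n
      have h0 : f • 𝟙 ((homologyFunctor (ModuleCat.{u} A) i).obj K) = 0 := by
        ext x
        exact hf i hi x
      rw [← (singleFunctor (ModuleCat.{u} A) i).map_id, ← Functor.map_smul, h0,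
        Functor.map_zero]
    · refine ⟨0, fun n hn => ?_⟩
      exact repKill_of_subsingleton I
        (subsingleton_hdi_single I hcd _ i n (by omega)) _
  obtain ⟨N, hN⟩ := key
  exact ⟨N, fun n hn x => smul_eq_zero_of_repKill I (hN n hn) x⟩

end Groth.Agent.Lib.Helper39.GMD.RepKill
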