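import Groth.Agent.Lib.Helper39.LD.HomCxHom
import Groth.Agent.Lib.Helper25.RHomTensor
import Groth.Agent.Lib.Helper25.TensorBraid
import Groth.Agent.Lib.Helper15.KProjRes

/-!
# Symmetry of `Hom_{D(A)}(X, RHom(Y, J))` in `X` and `Y` (helper39)
-/

set_option autoImplicit false
universe u

namespace Groth.Agent.Lib.Helper39.GMD.SymAdj

open CategoryTheory CategoryTheory.Limits MonoidalCategory HomologicalComplex DerivedCategory
open Groth.Agent.Lib.Helper25.TensorCx Groth.Agent.Lib.Helper25.HomTensor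
open Groth.Agent.Lib.Helper25.HomCxPre Groth.Agent.Lib.Helper25.KFlat
open Groth.Agent.Lib.Helper25.RHomTensor Groth.Agent.Lib.Helper25.RHomKInj
open Groth.Agent.Lib.Helper39.LD.HomCxHom

attribute [local instance] HasDerivedCategory.standard

variable {A : Type u} [CommRing A]

/-- the swap isomorphism `Hom•(X, Hom•(Y, J)) ≅ Hom•(Y, Hom•(X, J))` -/
noncomputable def swapIso (X Y J : DRing.Cx A) :
    DRing.homCx X (DRing.homCx Y J) ≅ DRing.homCx Y (DRing.homCx X J) :=
  homTensorIso X Y J ≪≫ homCxPreIso (braid Y X) J ≪≫ (homTensorIso Y X J).symm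

theorem subsingleton_swap_of_kflat (X Y J : DRing.Cx A) [J.IsKInjective]
    (hX : IsKFlat X) (hY : IsKFlat Y) (q : ℤ)
    (h : Subsingleton (Q.obj Y ⟶ (Q.obj (DRing.homCx X J))⟦q⟧)) :
    Subsingleton (Q.obj X ⟶ (Q.obj (DRing.homCx Y J))⟦q⟧) := by
  haveI := isKInjective_homCx X J hX
  haveI := isKInjective_homCx Y J hY
  let e1 := homologyEquiv Y (DRing.homCx X J) q
  let e2 := homologyEquiv X (DRing.homCx Y J) q
  let e3 : (DRing.homCx X (DRing.homCx Y J)).homology q ≅
      (DRing.homCx Y (DRing.homCx X J)).homology q :=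
    (HomologicalComplex.homologyFunctor (ModuleCat.{u} A) (ComplexShape.up ℤ) q).mapIso
      (swapIso X Y J)
  haveI : Subsingleton ((DRing.homCx Y (DRing.homCx X J)).homology q) :=
    e1.toEquiv.subsingleton
  haveI : Subsingleton ((DRing.homCx X (DRing.homCx Y J)).homology q) :=
    e3.toLinearEquiv.toEquiv.subsingleton
  exact e2.symm.toEquiv.subsingleton

theorem subsingleton_swap (X Y J : DRing.Cx A) [J.IsKInjective] (q : ℤ)
    (h : Subsingleton (Q.obj Y ⟶ (Q.obj (DRing.homCx X J))⟦q⟧)) :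
    Subsingleton (Q.obj X ⟶ (Q.obj (DRing.homCx Y J))⟦q⟧) := by
  obtain ⟨P, π, hP, hπ, hPf, -, -⟩ :=
    Groth.Agent.Lib.Helper15.KProjRes.exists_kprojective_resolution X
  obtain ⟨P', π', hP', hπ', hPf', -, -⟩ :=
    Groth.Agent.Lib.Helper15.KProjRes.exists_kprojective_resolution Y
  haveI : IsIso (Q.map π) := (isIso_Q_map_iff_quasiIso _ _).2 hπ
  haveI : IsIso (Q.map π') := (isIso_Q_map_iff_quasiIso _ _).2 hπ'
  haveI : QuasiIso (homCxPre π J) := quasiIso_homCxPre π J
  haveI : QuasiIso (homCxPre π' J) := quasiIso_homCxPre π' J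
  haveI : IsIso (Q.map (homCxPre π J)) := (isIso_Q_map_iff_quasiIso _ _).2 inferInstance
  haveI : IsIso (Q.map (homCxPre π' J)) := (isIso_Q_map_iff_quasiIso _ _).2 inferInstance
  let a : Q.obj P ≅ Q.obj X := asIso (Q.map π)
  let a' : Q.obj P' ≅ Q.obj Y := asIso (Q.map π')
  let b : Q.obj (DRing.homCx X J) ≅ Q.obj (DRing.homCx P J) := asIso (Q.map (homCxPre π J))
  let b' : Q.obj (DRing.homCx Y J) ≅ Q.obj (DRing.homCx P' J) := asIso (Q.map (homCxPre π' J))
  have h1 : Subsingleton (Q.obj P' ⟶ (Q.obj (DRing.homCx P J))⟦q⟧) :=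
    (Iso.homCongr a' ((shiftFunctor (Dual.D A) q).mapIso b.symm)).subsingleton
  have h2 := subsingleton_swap_of_kflat P P' J hPf hPf' q h1
  exact (Iso.homCongr a.symm ((shiftFunctor (Dual.D A) q).mapIso b')).subsingleton

end Groth.Agent.Lib.Helper39.GMD.SymAdj
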