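import Groth.Agent.Lib.Helper39.GMD.HomInjFlat
import Groth.Agent.Lib.Helper39.GMD.Main
import Groth.Agent.Lib.Helper39.LD.BidualD
import Groth.Agent.Lib.Helper39.LD.HomSgl
import Groth.Agent.S6965
import Groth.Agent.S6954
import Groth.Agent.S6942
import Groth.Agent.S2066

/-!
# Finite Tor dimension of `G` versus finite injective dimension of `RHom(G, ω)` (helper39)
-/

set_option autoImplicit false
universe u

namespace Groth.Agent.Lib.Helper39.GMD.TorInj

open CategoryTheory CategoryTheory.Limits HomologicalComplex DerivedCategory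
open CochainComplex.HomComplex DRing
open Groth.Agent.Lib.Helper39.LD

attribute [local instance] HasDerivedCategory.standard

variable {A : Type u} [CommRing A]

theorem isZero_homCx_X (Y Z : DRing.Cx A) (n : ℤ)
    (h : ∀ p q : ℤ, p + n = q → IsZero (Y.X p) ∨ IsZero (Z.X q)) :
    IsZero ((DRing.homCx Y Z).X n) := by
  haveI : Subsingleton (Cochain Y Z n) := ⟨fun z z' => by
    refine Cochain.ext _ _ (fun p q hpq => ?_)
    rcases h p q hpq with h1 | h1
    · exact h1.eq_of_src _ _
    · exact h1.eq_of_tgt _ _⟩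
  exact ModuleCat.isZero_of_subsingleton (ModuleCat.of A (Cochain Y Z n))

theorem isZero_homology_of_isZero_X (Y : DRing.Cx A) (n : ℤ) (h : IsZero (Y.X n)) :
    IsZero (Y.homology n) := by
  rw [← exactAt_iff_isZero_homology]
  exact ShortComplex.exact_of_isZero_X₂ _ h

/-- `RHom(P, J)` has finite injective dimension for `P` perfect and `J` a bounded complex of
injectives -/
theorem hasFiniteInjDim_homCx (J : DRing.Cx A) [J.IsKInjective] (a b : ℤ)
    (hb : ∀ i, (i < a ∨ b < i) → IsZero (J.X i)) (P : DRing.Cx A) (p₁ p₂ : ℤ)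
    (hP : VanishesOutside P p₁ p₂) (hfp : TermwiseFiniteProjective P) :
    HasFiniteInjDim A (Q.obj (DRing.homCx P J)) := by
  have hKF : Groth.Agent.Lib.Helper25.KFlat.IsKFlat P :=
    Groth.Agent.Lib.Helper25.KFlat.isKFlat_of_boundedAbove_of_flat P p₂
      (fun q hq => hP q (Or.inr hq)) (fun q => by
        haveI := (hfp q).2
        infer_instance)
  let Z : DRing.Cx A := DRing.homCx P J
  haveI : Z.IsKInjective := Groth.Agent.Lib.Helper25.RHomTensor.isKInjective_homCx P J hKF
  have hZ : ∀ i : ℤ, (i < a - p₂ ∨ b - p₁ < i) → IsZero (Z.X i) := by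
    intro i hi
    apply isZero_homCx_X
    intro p q hpq
    by_cases hp : p < p₁ ∨ p₂ < p
    · exact Or.inl (hP p hp)
    · push Not at hp
      exact Or.inr (hb q (by omega))
  refine ⟨a - p₂, b - p₁, ((Groth.Agent.S6965.result A (Q.obj Z) (a - p₂) (b - p₁)).out 1 0).1 ?_⟩
  intro N _ _ i hi
  let NN : ModuleCat.{u} A := ModuleCat.of A N
  let e : Dual.inD A N ≅ Q.obj (Sg NN) :=
    (DerivedCategory.singleFunctorIsoCompQ (ModuleCat.{u} A) 0).app NN
  have h1 : IsZero ((DRing.homCx (Sg NN) Z).X i) := by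
    apply isZero_homCx_X
    intro p q hpq
    by_cases hp : p = 0
    · subst hp
      exact Or.inr (hZ q (by omega))
    · exact Or.inl (isZero_Sg_X NN p hp)
  haveI : Subsingleton ((DRing.homCx (Sg NN) Z).homology i) :=
    ModuleCat.subsingleton_of_isZero (isZero_homology_of_isZero_X _ i h1)
  haveI : Subsingleton (Q.obj (Sg NN) ⟶ (Q.obj Z)⟦i⟧) :=
    (HomCxHom.homologyEquiv (Sg NN) Z i).symm.toEquiv.subsingleton
  exact (Iso.homCongr e (Iso.refl _)).subsingleton

variable [IsNoetherianRing A]

/-- `Hom•(I, J)` is a bounded complex of flat modules for bounded complexes of injectives -/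
theorem hasTorAmplitudeIn_homCx (J : DRing.Cx A) (a b : ℤ) (hJ : ∀ n, Injective (J.X n))
    (hb : ∀ i, (i < a ∨ b < i) → IsZero (J.X i)) (I : DRing.Cx A) (a' b' : ℤ)
    (hI : VanishesOutside I a' b') (hIinj : TermwiseInjective I) :
    HasTorAmplitudeIn A (a - b') (b - a') (Q.obj (DRing.homCx I J)) := by
  refine ⟨DRing.homCx I J, ?_, ?_, ⟨Iso.refl _⟩⟩
  · intro i hi
    apply isZero_homCx_X
    intro p q hpq
    by_cases hp : p < a' ∨ b' < p
    · exact Or.inl (hI p hp)
    · push Not at hp
      exact Or.inr (hb q (by omega))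
  · intro n
    exact HomInjFlat.flat_homCx_X I J hIinj
      (fun q => (Module.injective_iff_injective_object A (J.X q)).2 (hJ q)) n

end Groth.Agent.Lib.Helper39.GMD.TorInj
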